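import Mathlib
import Cfsg.Agent.Nodes.LeviDec

/-!
# The sum of all `p`-elements as an alternating sum over the parabolic subgroups (S4842, K-ALL, helper631)

`fixV K g` : the number of parabolic subgroups `x P_K x⁻¹` whose unipotent radical contains `g`.
-/

set_option autoImplicit false
set_option linter.unusedSectionVars false

namespace Cfsg.Agent.H631.Kaw

open CoxeterSystem Cfsg.Agent.ChevalleyStructure.CoxeterGeom Cfsg.Agent.Tits.Roots Cfsg.Agent.Tits.Core
  Cfsg.Agent.Tits.Exchange Cfsg.Agent.Nodes.Reps Cfsg.Agent.Nodes.BNOf Cfsg.Agent.Nodes.StabComb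
  Cfsg.Agent.Nodes.Bruhat Cfsg.Agent.Nodes.OppDec Cfsg.Agent.Nodes.LeviDec

/-- the set of the elements of `p`-power order -/
noncomputable def pel (Y : Type*) [Group Y] [Finite Y] (p : ℕ) : Finset Y :=
  (Set.toFinite {g : Y | ∃ k, orderOf g = p ^ k}).toFinset

theorem mem_pel {Y : Type*} [Group Y] [Finite Y] {p : ℕ} {g : Y} : g ∈ pel Y p ↔ ∃ k, orderOf g = p ^ k := by
  simp [pel]

variable {I W Y : Type*} [Fintype I] [DecidableEq I] [Group W] [Group Y] {M : CoxeterMatrix I}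
  (cs : CoxeterSystem M W) {A : I → I → ℤ} (h : IsCartan M A) (T : Subgroup Y)
  (X : (I → ℤ) → Subgroup Y)

/-- the number of cosets `x P_K` with `g ∈ x V_K x⁻¹` -/
noncomputable def fixV (K : Finset I) (g : Y) : ℕ :=
  Nat.card {x : Y ⧸ PJ cs h T X (K : Set I) // (Quotient.out x)⁻¹ * g * Quotient.out x ∈ VJ cs h X (K : Set I)}

/-- the coefficient of `g` in `∑ K, (-1)^|K| |U_K| ∑ x ∈ G/P_K, ∑ v ∈ V_K, x v x⁻¹` -/
noncomputable def coef (g : Y) : ℤ :=
  ∑ K : Finset I, (-1 : ℤ) ^ K.card * (Nat.card (UJ cs h X (K : Set I)) : ℤ) * (fixV cs h T X K g : ℤ)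

end Cfsg.Agent.H631.Kaw
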