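import Mathlib
import Cfsg.Agent.Nodes.LeviDec

/-!
# Combinatorics of the Weyl group for the injectivity of the opposite idempotents (S4842, K-ALL, helper631)

`Pr w K' K` : `w` maps the simple roots of `K'` onto the simple roots of `K`.
-/

set_option autoImplicit false
set_option linter.unusedSectionVars false

namespace Cfsg.Agent.H631.Kaw

open CoxeterSystem Cfsg.Agent.ChevalleyStructure.CoxeterGeom Cfsg.Agent.Tits.Roots Cfsg.Agent.Tits.Core
  Cfsg.Agent.Tits.Exchange Cfsg.Agent.Nodes.Reps Cfsg.Agent.Nodes.BNOf Cfsg.Agent.Nodes.StabComb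
  Cfsg.Agent.Nodes.Bruhat Cfsg.Agent.Nodes.OppDec Cfsg.Agent.Nodes.LeviDec

variable {I W : Type*} [Fintype I] [DecidableEq I] [Group W] {M : CoxeterMatrix I}
  (cs : CoxeterSystem M W) {A : I → I → ℤ} (h : IsCartan M A)

/-- `w` maps the simple roots of `K'` bijectively onto the simple roots of `K` -/
def Pr (w : W) (K' K : Finset I) : Prop :=
  K'.card = K.card ∧ ∀ i ∈ K', ∃ k ∈ K, rep cs h w (sr i) = sr k

theorem eq_sum (x : I → ℤ) : x = ∑ k, x k • sr k := by
  funext k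
  rw [Finset.sum_apply, Finset.sum_eq_single k (fun b _ hb => by
    rw [Pi.smul_apply, sr_ne hb.symm, smul_zero]) (by simp), Pi.smul_apply, sr_self, smul_eq_mul, mul_one]

theorem sr_inj {i k : I} (e : (sr i : I → ℤ) = sr k) : i = k := by
  by_contra hne
  have h1 := congrFun e i
  rw [sr_self, sr_ne hne] at h1
  exact one_ne_zero h1

theorem map_eq_sum (f : (I → ℤ) →ₗ[ℤ] (I → ℤ)) (x : I → ℤ) : f x = ∑ k, x k • f (sr k) := by
  conv_lhs => rw [eq_sum x, map_sum]
  exact Finset.sum_congr rfl fun k _ => by rw [map_smul]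

theorem map_apply_eq_sum (f : (I → ℤ) →ₗ[ℤ] (I → ℤ)) (x : I → ℤ) (m : I) : f x m = ∑ k, x k * f (sr k) m := by
  rw [map_eq_sum f x, Finset.sum_apply]
  exact Finset.sum_congr rfl fun k _ => by rw [Pi.smul_apply, smul_eq_mul]

theorem ht_sum {ι : Type*} (s : Finset ι) (f : ι → I → ℤ) : ht (∑ i ∈ s, f i) = ∑ i ∈ s, ht (f i) := by
  classical
  induction s using Finset.induction_on with
  | empty => simp [ht]
  | insert a s ha ih => rw [Finset.sum_insert ha, Finset.sum_insert ha, RGD.ht_add, ih]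

theorem ht_sr (k : I) : ht (sr k : I → ℤ) = 1 := by
  unfold ht
  rw [Finset.sum_eq_single k (fun b _ hb => sr_ne hb) (by simp), sr_self]

variable {cs h}

/-- a positive root of `J` with simple image under a linear map positive on `J` is simple -/
theorem simple_of_linear {J : Set I} (f : (I → ℤ) →ₗ[ℤ] (I → ℤ)) (hf : ∀ j ∈ J, 0 < ht (f (sr j))) {x : I → ℤ}
    (hx : x ∈ PosJ cs h J) {k : I} (e : f x = sr k) : ∃ j ∈ J, x = sr j := by
  have h1 : ht (f x) = ∑ m, x m * ht (f (sr m)) := by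
    rw [map_eq_sum f x, ht_sum]
    exact Finset.sum_congr rfl fun m _ => RGD.ht_smul _ _
  rw [e, ht_sr] at h1
  have h2 : ht x ≤ 1 := by
    rw [h1]
    unfold ht
    refine Finset.sum_le_sum fun m _ => ?_
    by_cases hm : m ∈ J
    · have h3 := hf m hm
      have h4 : 0 ≤ x m := hx.2.1 m
      exact le_mul_of_one_le_right h4 h3
    · rw [hx.2.2 m hm, zero_mul]
  have h3 : 0 < ht x := RGD.ht_pos hx.1 hx.2.1
  have h4 : ht x = 1 := by omega
  have h5 : ∃ m, 0 < x m := by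
    by_contra hcon
    push Not at hcon
    have : ht x ≤ 0 := Finset.sum_nonpos fun m _ => hcon m
    omega
  obtain ⟨m, hm⟩ := h5
  have h6 : ∀ l, l ≠ m → x l = 0 := by
    intro l hl
    have h7 : x m + x l ≤ ht x := by
      unfold ht
      rw [← Finset.add_sum_erase Finset.univ x (Finset.mem_univ m)]
      have h8 : x l ≤ ∑ k ∈ Finset.univ.erase m, x k :=
        Finset.single_le_sum (fun k _ => hx.2.1 k) (Finset.mem_erase.2 ⟨hl, Finset.mem_univ l⟩)
      omega
    have h9 : 0 ≤ x l := hx.2.1 l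
    omega
  refine ⟨m, ?_, hx.1.eq_sr hx.2.1 m h6⟩
  by_contra hmJ
  have := hx.2.2 m hmJ
  omega

theorem rep_nonneg_of {J : Set I} {w : W} (hw : ∀ j ∈ J, 0 ≤ rep cs h w (sr j)) {x : I → ℤ}
    (hx : x ∈ PosJ cs h J) : 0 ≤ rep cs h w x := by
  rw [map_eq_sum (rep cs h w) x]
  refine Finset.sum_nonneg fun k _ => ?_
  by_cases hk : k ∈ J
  · exact smul_nonneg (hx.2.1 k) (hw k hk)
  · rw [hx.2.2 k hk, zero_smul]

/-- a positive root of `J` with simple image under `w`, positive on `J`, is simple -/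
theorem simple_of {J : Set I} {w : W} (hw : ∀ j ∈ J, 0 ≤ rep cs h w (sr j)) {x : I → ℤ}
    (hx : x ∈ PosJ cs h J) {k : I} (e : rep cs h w x = sr k) : ∃ j ∈ J, x = sr j :=
  simple_of_linear (rep cs h w) (fun j hj => RGD.ht_pos ((isRoot_sr cs h j).act w) (hw j hj)) hx e

theorem simple_of_neg {J : Set I} {w : W} (hw : ∀ j ∈ J, rep cs h w (sr j) ≤ 0) {x : I → ℤ}
    (hx : x ∈ PosJ cs h J) {k : I} (e : rep cs h w x = - sr k) : ∃ j ∈ J, x = sr j := by
  refine simple_of_linear (-rep cs h w) (fun j hj => ?_) hx (k := k) ?_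
  · rw [LinearMap.neg_apply]
    exact RGD.ht_pos ((isRoot_sr cs h j).act w).neg (neg_nonneg.2 (hw j hj))
  · rw [LinearMap.neg_apply, e, neg_neg]

theorem nonneg_or {x : I → ℤ} (hx : IsRoot cs h x) (hn : ¬ x ≤ 0) : 0 ≤ x := hx.pos_or_neg.resolve_right hn

theorem nonpos_or {x : I → ℤ} (hx : IsRoot cs h x) (hn : ¬ 0 ≤ x) : x ≤ 0 := hx.pos_or_neg.resolve_left hn

theorem nonpos_of_apply_neg {x : I → ℤ} (hx : IsRoot cs h x) {k : I} (hk : x k < 0) : x ≤ 0 :=
  nonpos_or hx fun h0 => absurd (h0 k) (not_le.2 hk)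

/-- an element of `W_J` positive on `J` is trivial -/
theorem eq_one_of_WJ {J : Set I} {w : W} (hw : w ∈ WJ cs J) (h0 : ∀ j ∈ J, 0 ≤ rep cs h w (sr j)) : w = 1 := by
  refine eq_one_of_nonneg cs h w fun i => ?_
  by_cases hi : i ∈ J
  · exact h0 i hi
  · exact (NotJ.act hw (sr_mem_NotJ hi)).2.1

namespace Pr

variable {w v : W} {K K' K'' : Finset I}

theorem one (K : Finset I) : Pr cs h 1 K K := ⟨rfl, fun i hi => ⟨i, hi, by rw [map_one, Module.End.one_apply]⟩⟩

theorem surj (hw : Pr cs h w K' K) {k : I} (hk : k ∈ K) : ∃ i ∈ K', rep cs h w (sr i) = sr k := by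
  classical
  choose! f hf hf' using hw.2
  have h1 : Set.InjOn f K' := by
    intro i hi j hj hij
    have h2 : rep cs h w (sr i) = rep cs h w (sr j) := by rw [hf' i hi, hf' j hj, hij]
    exact sr_inj (rep_injective_apply cs h w h2)
  have h2 : K'.image f = K := by
    refine Finset.eq_of_subset_of_card_le ?_ ?_
    · intro k hk
      obtain ⟨i, hi, rfl⟩ := Finset.mem_image.1 hk
      exact hf i hi
    · rw [Finset.card_image_of_injOn h1, hw.1]
  rw [← h2] at hk
  obtain ⟨i, hi, rfl⟩ := Finset.mem_image.1 hk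
  exact ⟨i, hi, hf' i hi⟩

theorem inv (hw : Pr cs h w K' K) : Pr cs h w⁻¹ K K' := by
  refine ⟨hw.1.symm, fun k hk => ?_⟩
  obtain ⟨i, hi, e⟩ := hw.surj hk
  exact ⟨i, hi, by rw [← e, rep_inv_apply]⟩

theorem mul (hw : Pr cs h w K' K) (hv : Pr cs h v K'' K') : Pr cs h (w * v) K'' K := by
  refine ⟨hv.1.trans hw.1, fun i hi => ?_⟩
  obtain ⟨j, hj, e⟩ := hv.2 i hi
  obtain ⟨k, hk, e'⟩ := hw.2 j hj
  exact ⟨k, hk, by rw [rep_mul_apply, e, e']⟩

theorem rootsJ (hw : Pr cs h w K' K) {x : I → ℤ} (hx : x ∈ RootsJ cs h (K' : Set I)) :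
    rep cs h w x ∈ RootsJ cs h (K : Set I) := by
  refine ⟨hx.1.act w, fun m hm => ?_⟩
  rw [map_apply_eq_sum]
  refine Finset.sum_eq_zero fun k _ => ?_
  by_cases hk : k ∈ K'
  · obtain ⟨l, hl, e⟩ := hw.2 k hk
    rw [e, sr_ne (by rintro rfl; exact hm hl), mul_zero]
  · rw [hx.2 k hk, zero_mul]

theorem rootsJ_iff (hw : Pr cs h w K' K) {x : I → ℤ} :
    rep cs h w x ∈ RootsJ cs h (K : Set I) ↔ x ∈ RootsJ cs h (K' : Set I) := by
  constructor
  · intro h1
    have := hw.inv.rootsJ h1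
    rwa [rep_inv_apply] at this
  · exact hw.rootsJ

theorem nonneg (hw : Pr cs h w K' K) {i : I} (hi : i ∈ K') : 0 ≤ rep cs h w (sr i) := by
  obtain ⟨k, -, e⟩ := hw.2 i hi
  rw [e]; exact sr_nonneg k

theorem eq_of_one (hw : Pr cs h (1 : W) K' K) : K' = K := by
  refine Finset.eq_of_subset_of_card_le (fun i hi => ?_) hw.1.ge
  obtain ⟨k, hk, e⟩ := hw.2 i hi
  rw [map_one, Module.End.one_apply] at e
  rwa [sr_inj e]

theorem left_unique (hw : Pr cs h w K' K) (hv : Pr cs h w K'' K) : K' = K'' := by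
  have h1 := hv.inv.mul hw
  rw [inv_mul_cancel] at h1
  exact h1.eq_of_one

end Pr

/-- a root outside `K` with nonnegative coordinates -/
theorem mem_NotJ_of {K : Set I} {x : I → ℤ} (hx : IsRoot cs h x) (h0 : 0 ≤ x) (hn : x ∉ RootsJ cs h K) :
    x ∈ NotJ cs h K := by
  rcases mem_PosJ_or_NotJ K hx h0 with h1 | h1
  · exact absurd (PosJ_subset K h1) hn
  · exact h1

theorem not_mem_RootsJ_of_NotJ {K : Set I} {x : I → ℤ} (hx : x ∈ NotJ cs h K) : x ∉ RootsJ cs h K := by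
  obtain ⟨-, -, k, hk, hk0⟩ := hx
  intro h1
  have := h1.2 k hk
  omega

theorem mem_NotNJ_of {K : Set I} {x : I → ℤ} (hx : IsRoot cs h x) (h0 : x ≤ 0) (hn : x ∉ RootsJ cs h K) :
    x ∈ NotNJ cs h K := by
  refine mem_NotJ_of hx.neg (neg_nonneg.2 h0) fun h1 => hn ?_
  have := RootsJ.neg h1
  rwa [neg_neg] at this

/-- **(R1)** `w` nonnegative on `K`, `w α_k` outside `J`: the roots of `K` with positive coordinate at `k` are
mapped to positive roots outside `J` -/
theorem rep_mem_NotJ {K : Set I} {J : Set I} {w : W} (hw : ∀ k ∈ K, 0 ≤ rep cs h w (sr k)) {k : I} (hk : k ∈ K)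
    (hkJ : rep cs h w (sr k) ∉ RootsJ cs h J) {x : I → ℤ} (hx : x ∈ PosJ cs h K) (hxk : 0 < x k) :
    rep cs h w x ∈ NotJ cs h J := by
  refine ⟨hx.1.act w, rep_nonneg_of hw hx, ?_⟩
  have h1 := mem_NotJ_of ((isRoot_sr cs h k).act w) (hw k hk) hkJ
  obtain ⟨-, -, m, hm, hm0⟩ := h1
  refine ⟨m, hm, ?_⟩
  rw [map_apply_eq_sum]
  refine Finset.sum_pos' (fun l _ => ?_) ⟨k, Finset.mem_univ k, mul_pos hxk hm0⟩
  by_cases hl : l ∈ K
  · exact mul_nonneg (hx.2.1 l) (hw l hl m)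
  · rw [hx.2.2 l hl, zero_mul]

/-- **(R9)** `y` maps `K'` to `K` and `α_j` to a negative root -/
theorem rep_mem_NotNJ {y : W} {K' K : Finset I} (hy : Pr cs h y K' K) {j : I} (hj : j ∉ K')
    (hneg : rep cs h y (sr j) ≤ 0) {x : I → ℤ} (hx : x ∈ PosJ cs h (insert j K' : Set I)) (hxj : 0 < x j) :
    rep cs h y x ∈ NotNJ cs h (K : Set I) := by
  have h1 : rep cs h y (sr j) ∉ RootsJ cs h (K : Set I) := by
    rw [hy.rootsJ_iff]
    exact not_mem_RootsJ_of_NotJ (sr_mem_NotJ (by exact_mod_cast hj))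
  obtain ⟨-, -, m, hm, hm0⟩ := mem_NotNJ_of ((isRoot_sr cs h j).act y) hneg h1
  rw [Pi.neg_apply] at hm0
  have h2 : rep cs h y x m < 0 := by
    rw [map_apply_eq_sum, Finset.sum_eq_single j]
    · exact mul_neg_of_pos_of_neg hxj (by omega)
    · intro l _ hl
      by_cases hlK : l ∈ K'
      · obtain ⟨k, hk, e⟩ := hy.2 l hlK
        rw [e, sr_ne (by rintro rfl; exact hm hk), mul_zero]
      · rw [hx.2.2 l (by
          rintro (h3 | h3)
          · exact hl h3
          · exact hlK (by exact_mod_cast h3)), zero_mul]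
    · simp
  refine mem_NotNJ_of (hx.1.act y) (nonpos_of_apply_neg (hx.1.act y) h2) fun h3 => ?_
  have := h3.2 m hm
  omega

/-- **(R10)** uniqueness of the opposite element in a residue of corank one -/
theorem eq_of_WJ {K' K : Finset I} {y z : W} {j : I} (hj : j ∉ K') (hyT : y ∈ WJ cs (insert j K' : Set I))
    (hKT : (K : Set I) ⊆ (insert j K' : Set I)) (hy : Pr cs h y K' K) (hneg : rep cs h y (sr j) ≤ 0)
    (hzT : z ∈ WJ cs (insert j K' : Set I)) (hz : Pr cs h z K K) (hz1 : z ≠ 1) : z * y = 1 ∧ K' = K := by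
  -- the other letter `l` of `T`
  have hT : ∃ l, l ∉ K ∧ (insert j K' : Set I) ⊆ (insert l K : Set I) := by
    have h1 : K ⊆ insert j K' := by
      intro i hi
      have := hKT (show i ∈ (K : Set I) from hi)
      rcases this with h2 | h2
      · exact Finset.mem_insert.2 (Or.inl h2)
      · exact Finset.mem_insert.2 (Or.inr h2)
    have h2 : (insert j K' \ K).card = 1 := by
      rw [Finset.card_sdiff_of_subset h1, Finset.card_insert_of_notMem hj, hy.1]
      omega
    obtain ⟨l, hl⟩ := Finset.card_eq_one.1 h2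
    have h3 : l ∈ insert j K' \ K := by rw [hl]; exact Finset.mem_singleton_self l
    refine ⟨l, (Finset.mem_sdiff.1 h3).2, fun i hi => ?_⟩
    by_cases hiK : i ∈ K
    · exact Or.inr hiK
    · left
      have h4 : i ∈ insert j K' \ K := by
        refine Finset.mem_sdiff.2 ⟨?_, hiK⟩
        rcases hi with h5 | h5
        · exact Finset.mem_insert.2 (Or.inl h5)
        · exact Finset.mem_insert.2 (Or.inr h5)
      rw [hl] at h4
      exact Finset.mem_singleton.1 h4
  obtain ⟨l, hlK, hTl⟩ := hT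
  -- `z` makes `α_l` negative
  have hzl : rep cs h z (sr l) ≤ 0 := by
    by_contra hcon
    refine hz1 (eq_one_of_WJ (h := h) (J := (insert j K' : Set I)) hzT fun i hi => ?_)
    rcases hTl hi with h2 | h2
    · rw [h2]; exact nonneg_or ((isRoot_sr cs h l).act z) hcon
    · exact hz.nonneg h2
  -- `β = - y α_j` is a positive root of `T` outside `K`
  have hb : -rep cs h y (sr j) ∈ PosJ cs h (insert l K : Set I) := by
    have h1 : rep cs h y (sr j) ∈ RootsJ cs h (insert j K' : Set I) :=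
      RootsJ.act hyT (PosJ_subset _ (sr_mem_PosJ (Or.inl rfl)))
    refine ⟨h1.1.neg, neg_nonneg.2 hneg, fun k hk => ?_⟩
    rw [Pi.neg_apply, h1.2 k (fun h2 => hk (hTl h2)), neg_zero]
  have hbl : 0 < (-rep cs h y (sr j)) l := by
    refine lt_of_le_of_ne (hb.2.1 l) fun h2 => ?_
    have h3 : rep cs h y (sr j) ∈ RootsJ cs h (K : Set I) := by
      refine ⟨(isRoot_sr cs h j).act y, fun k hk => ?_⟩
      by_cases hkl : k = l
      · rw [hkl]
        have h4 : (0 : ℤ) = (-rep cs h y (sr j)) l := h2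
        rw [Pi.neg_apply] at h4
        omega
      · have h4 := hb.2.2 k (by
          rintro (h5 | h5)
          · exact hkl h5
          · exact hk h5)
        rw [Pi.neg_apply] at h4
        omega
    rw [hy.rootsJ_iff] at h3
    exact not_mem_RootsJ_of_NotJ (sr_mem_NotJ (by exact_mod_cast hj)) h3
  have h1 := rep_mem_NotNJ hz hlK hzl hb hbl
  have h2 : 0 ≤ rep cs h (z * y) (sr j) := by
    have h3 : 0 ≤ -rep cs h z (-rep cs h y (sr j)) := h1.2.1
    rw [rep_mul_apply]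
    rwa [map_neg, neg_neg] at h3
  have h3 : z * y = 1 := by
    refine eq_one_of_WJ (h := h) (J := (insert j K' : Set I)) (mul_mem hzT hyT) fun i hi => ?_
    rcases hi with h4 | h4
    · rw [h4]; exact h2
    · exact (hz.mul hy).nonneg (by exact_mod_cast h4)
  refine ⟨h3, ?_⟩
  have h4 := hz.mul hy
  rw [h3] at h4
  exact h4.eq_of_one

/-- **(R8)** one step of the gallery -/
theorem exists_step {w : W} {K' K : Finset I} (hw : Pr cs h w K' K) (hw1 : w ≠ 1) :
    ∃ (j : I) (w₁ y : W) (K₁ : Finset I), j ∉ K' ∧ w = w₁ * y ∧ y ∈ WJ cs (insert j K' : Set I) ∧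
      (K₁ : Set I) ⊆ (insert j K' : Set I) ∧ Pr cs h y K' K₁ ∧ Pr cs h w₁ K₁ K ∧ rep cs h y (sr j) ≤ 0 ∧
      (∀ i ∈ (insert j K' : Set I), 0 ≤ rep cs h w₁ (sr i)) ∧ cs.length w₁ < cs.length w := by
  classical
  have h1 : ∃ j, ¬ 0 ≤ rep cs h w (sr j) := by
    by_contra hcon
    push Not at hcon
    exact hw1 (eq_one_of_nonneg cs h w hcon)
  obtain ⟨j, hj⟩ := h1
  have hjK : j ∉ K' := fun h2 => hj (hw.nonneg h2)
  have hneg := nonpos_or ((isRoot_sr cs h j).act w) hj
  obtain ⟨w₁, hmin, y, hy, e⟩ := exists_isMinR cs (insert j K' : Set I) w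
  have hpos : ∀ i ∈ (insert j K' : Set I), 0 ≤ rep cs h w₁ (sr i) := by
    intro i hi
    exact nonneg_of_lt cs h w₁ i ((isMinR_iff cs).1 hmin i hi)
  have hyj : rep cs h y (sr j) ≤ 0 := by
    by_contra hcon
    have h2 : rep cs h y (sr j) ∈ PosJ cs h (insert j K' : Set I) :=
      ⟨(isRoot_sr cs h j).act y, nonneg_or ((isRoot_sr cs h j).act y) hcon,
        (RootsJ.act hy (PosJ_subset _ (sr_mem_PosJ (Or.inl rfl)))).2⟩
    have h3 := rep_nonneg_of hpos h2
    rw [← rep_mul_apply, ← e] at h3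
    exact hj h3
  have hstep : ∀ i ∈ K', ∃ t ∈ (insert j K' : Set I), rep cs h y (sr i) = sr t := by
    intro i hi
    obtain ⟨k, hk, ek⟩ := hw.2 i hi
    have h2 : rep cs h w₁ (rep cs h y (sr i)) = sr k := by rw [← rep_mul_apply, ← e, ek]
    have hr := RootsJ.act hy (PosJ_subset (cs := cs) (h := h) (insert j K' : Set I) (sr_mem_PosJ (Or.inr hi)))
    have h3 : 0 ≤ rep cs h y (sr i) := by
      by_contra hcon
      have h4 : -rep cs h y (sr i) ∈ PosJ cs h (insert j K' : Set I) :=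
        ⟨hr.1.neg, neg_nonneg.2 (nonpos_or hr.1 hcon), (RootsJ.neg hr).2⟩
      have h5 := rep_nonneg_of hpos h4
      rw [map_neg, h2] at h5
      exact (isRoot_sr cs h k).not_pos_neg (sr_nonneg k) (neg_nonneg.1 h5)
    exact simple_of hpos ⟨hr.1, h3, hr.2⟩ h2
  choose! f hf hf' using hstep
  have hinj : Set.InjOn f K' := by
    intro i hi i' hi' hii
    have h2 : rep cs h y (sr i) = rep cs h y (sr i') := by rw [hf' i hi, hf' i' hi', hii]
    exact sr_inj (rep_injective_apply cs h y h2)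
  have hPy : Pr cs h y K' (K'.image f) :=
    ⟨(Finset.card_image_of_injOn hinj).symm, fun i hi => ⟨f i, Finset.mem_image_of_mem f hi, hf' i hi⟩⟩
  refine ⟨j, w₁, y, K'.image f, hjK, e, hy, ?_, hPy, ?_, hyj, hpos, ?_⟩
  · intro t ht
    rw [Finset.coe_image] at ht
    obtain ⟨i, hi, rfl⟩ := ht
    exact hf i hi
  · have h2 := hw.mul hPy.inv
    rwa [e, mul_inv_cancel_right] at h2
  · rw [e, hmin y hy]
    have h2 : cs.length y ≠ 0 := by
      intro h3
      rw [cs.length_eq_zero_iff] at h3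
      rw [h3, map_one, Module.End.one_apply] at hyj
      exact (isRoot_sr cs h j).not_pos_neg (sr_nonneg j) hyj
    omega

/-- double coset representatives -/
theorem exists_double (J : Set I) (w : W) : ∃ x₁ ∈ WJ cs J, ∃ x₂ ∈ WJ cs J, ∃ y, w = x₁ * y * x₂ ∧
    (∀ j ∈ J, 0 ≤ rep cs h y (sr j)) ∧ ∀ j ∈ J, 0 ≤ rep cs h y⁻¹ (sr j) := by
  obtain ⟨x₁, hx₁, v, e, hv⟩ := exists_isMinL cs J w
  obtain ⟨y, hy, x₂, hx₂, e'⟩ := exists_isMinR cs J v
  refine ⟨x₁, hx₁, x₂, hx₂, y, by rw [e, e', mul_assoc], fun j hj => ?_, fun j hj => ?_⟩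
  · exact nonneg_of_lt cs h y j ((isMinR_iff cs).1 hy j hj)
  · refine nonneg_of_lt cs h y⁻¹ j ?_
    have h1 := hv _ (simple_mem_WJ cs hj)
    rw [e', ← mul_assoc, cs.length_simple] at h1
    have h2 := cs.length_mul_le (cs.simple j * y) x₂
    have h3 := hy x₂ hx₂
    rw [← cs.length_inv y, ← cs.length_inv (cs.simple j * y), mul_inv_rev, inv_simple] at *
    omega

/-- a doubly minimal element either moves a simple root of `K` out of `K` or permutes the simple roots of `K` -/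
theorem dich (K : Finset I) {y : W} (h1 : ∀ j ∈ (K : Set I), 0 ≤ rep cs h y (sr j))
    (h2 : ∀ j ∈ (K : Set I), 0 ≤ rep cs h y⁻¹ (sr j)) :
    (∃ k ∈ K, rep cs h y⁻¹ (sr k) ∉ RootsJ cs h (K : Set I)) ∨ Pr cs h y⁻¹ K K := by
  by_cases hcon : ∃ k ∈ K, rep cs h y⁻¹ (sr k) ∉ RootsJ cs h (K : Set I)
  · exact Or.inl hcon
  right
  push Not at hcon
  refine ⟨rfl, fun k hk => ?_⟩
  obtain ⟨j, hj, e⟩ := simple_of (J := (K : Set I)) h1 (x := rep cs h y⁻¹ (sr k)) (k := k)
    ⟨(hcon k hk).1, h2 k hk, (hcon k hk).2⟩ (by rw [rep_apply_inv])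
  exact ⟨j, hj, e⟩

/-- **(R6)** the opposite type -/
theorem exists_opp [Finite W] (K : Finset I) : ∃ (w : W) (K' : Finset I), Pr cs h w K' K ∧
    ∀ x ∈ NotJ cs h (K' : Set I), rep cs h w x ∈ NotNJ cs h (K : Set I) := by
  classical
  -- `-w₀` permutes the simple roots
  have hw0 : ∀ i, ∃ i', rep cs h (w0 cs) (sr i) = - sr i' := by
    intro i
    have h1 : -rep cs h (w0 cs) (sr i) ∈ PosJ cs h Set.univ :=
      ⟨((isRoot_sr cs h i).act _).neg, neg_nonneg.2 (rep_w0_nonpos (isRoot_sr cs h i) (sr_nonneg i)),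
        fun k hk => absurd (Set.mem_univ k) hk⟩
    obtain ⟨i', -, e⟩ := simple_of_neg (w := w0 cs) (J := Set.univ) (fun j _ =>
      rep_w0_nonpos (isRoot_sr cs h j) (sr_nonneg j)) h1 (k := i) (by
        rw [map_neg, ← rep_mul_apply, w0_mul_self, map_one, Module.End.one_apply])
    exact ⟨i', by rw [← e, neg_neg]⟩
  choose o ho using hw0
  have hinj : Function.Injective o := by
    intro i i' hii
    have h2 : rep cs h (w0 cs) (sr i) = rep cs h (w0 cs) (sr i') := by rw [ho, ho, hii]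
    exact sr_inj (rep_injective_apply cs h _ h2)
  have hoo : ∀ i, o (o i) = i := by
    intro i
    have h1 : rep cs h (w0 cs) (rep cs h (w0 cs) (sr i)) = sr i := by
      rw [← rep_mul_apply, w0_mul_self, map_one, Module.End.one_apply]
    rw [ho, map_neg, ho, neg_neg] at h1
    exact sr_inj h1
  -- the longest element of `K`
  have hl := isLongest_wJ cs (K : Set I)
  have hK : ∀ k ∈ K, ∃ k' ∈ K, rep cs h (wJ cs (K : Set I)) (sr k) = - sr k' := by
    intro k hk
    have hr := RootsJ.act hl.1 (PosJ_subset (cs := cs) (h := h) (K : Set I) (sr_mem_PosJ hk))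
    have h1 : -rep cs h (wJ cs (K : Set I)) (sr k) ∈ PosJ cs h (K : Set I) :=
      ⟨hr.1.neg, neg_nonneg.2 (rep_longest_nonpos hl (sr_mem_PosJ hk)), (RootsJ.neg hr).2⟩
    obtain ⟨k', hk', e⟩ := simple_of_neg (w := wJ cs (K : Set I)) (J := (K : Set I)) (fun j hj =>
      rep_longest_nonpos hl (sr_mem_PosJ hj)) h1 (k := k) (by
        rw [map_neg, ← rep_mul_apply, hl.mul_self, map_one, Module.End.one_apply])
    exact ⟨k', hk', by rw [← e, neg_neg]⟩
  refine ⟨wJ cs (K : Set I) * w0 cs, K.image o, ⟨Finset.card_image_of_injective K hinj, ?_⟩, ?_⟩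
  · intro i hi
    obtain ⟨k, hk, rfl⟩ := Finset.mem_image.1 hi
    obtain ⟨k', hk', e⟩ := hK k hk
    exact ⟨k', hk', by rw [rep_mul_apply, ho, hoo, map_neg, e, neg_neg]⟩
  · intro x hx
    rw [rep_mul_apply]
    refine NotNJ.act hl.1 (mem_NotNJ_of (hx.1.act _) (rep_w0_nonpos hx.1 hx.2.1) fun h1 => ?_)
    obtain ⟨-, -, m, hm, hm0⟩ := hx
    have h2 := h1.2 (o m) (fun h3 => hm (by
      rw [Finset.coe_image]
      exact ⟨o m, h3, hoo m⟩))
    rw [map_apply_eq_sum, Finset.sum_eq_single m] at h2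
    · rw [ho, Pi.neg_apply, sr_self] at h2
      omega
    · intro l _ hlm
      rw [ho, Pi.neg_apply, sr_ne (fun h3 => hlm (hinj h3).symm), neg_zero, mul_zero]
    · simp

end Cfsg.Agent.H631.Kaw
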