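import Mathlib
import Cfsg.Agent.H631.Kaw.Defs
import Cfsg.Agent.H631.Kaw.Root
import Cfsg.Agent.KFacts.RgdSyl

/-!
# The coefficients: `coef g = 1` for `p`-elements, `coef g = 0` else (S4842, K-ALL, helper631)
-/

set_option autoImplicit false
set_option linter.unusedSectionVars false

namespace Cfsg.Agent.H631.Kaw

open CoxeterSystem Cfsg.Agent.ChevalleyStructure.CoxeterGeom Cfsg.Agent.Tits.Roots Cfsg.Agent.Tits.Core
  Cfsg.Agent.Tits.Exchange Cfsg.Agent.Nodes.Reps Cfsg.Agent.Nodes.BNOf Cfsg.Agent.Nodes.StabComb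
  Cfsg.Agent.Nodes.Bruhat Cfsg.Agent.Nodes.OppDec Cfsg.Agent.Nodes.LeviDec

/-- a group as the product of the cosets and the subgroup -/
noncomputable def prodEquiv {G : Type*} [Group G] (P : Subgroup G) : (G ⧸ P) × P ≃ G :=
  Equiv.ofBijective (fun q => Quotient.out q.1 * q.2) (by
    constructor
    · rintro ⟨c, l⟩ ⟨c', l'⟩ e
      have e : Quotient.out c * (l : G) = Quotient.out c' * (l' : G) := e
      have h1 : (Quotient.out c * (l : G) : G ⧸ P) = c := by
        rw [QuotientGroup.mk_mul_of_mem _ l.2]; exact Quotient.out_eq' c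
      have h2 : (Quotient.out c' * (l' : G) : G ⧸ P) = c' := by
        rw [QuotientGroup.mk_mul_of_mem _ l'.2]; exact Quotient.out_eq' c'
      have h3 : c = c' := by rw [← h1, ← h2, e]
      subst h3
      rw [Prod.mk.injEq]
      exact ⟨rfl, Subtype.ext (mul_left_cancel e)⟩
    · intro x
      refine ⟨((x : G ⧸ P), ⟨(Quotient.out (x : G ⧸ P))⁻¹ * x, ?_⟩), ?_⟩
      · rw [← QuotientGroup.eq]
        exact Quotient.out_eq' _
      · exact mul_inv_cancel_left _ _)

/-- sums of right `P`-invariant functions -/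
theorem sum_eq_card_mul {G α : Type*} [Group G] [Fintype G] [CommSemiring α] (P : Subgroup G) [Fintype (G ⧸ P)]
    (f : G → α) (hf : ∀ x, ∀ l ∈ P, f (x * l) = f x) :
    ∑ x, f x = (Nat.card P : α) * ∑ c : G ⧸ P, f (Quotient.out c) := by
  have := Fintype.ofFinite P
  rw [← Equiv.sum_comp (prodEquiv P) f, Fintype.sum_prod_type, Finset.mul_sum]
  refine Finset.sum_congr rfl fun c _ => ?_
  rw [Finset.sum_congr rfl (g := fun _ => f (Quotient.out c)) fun l _ => ?_]
  · rw [Finset.sum_const, Finset.card_univ, ← Nat.card_eq_fintype_card, nsmul_eq_mul]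
  · exact hf _ l l.2

variable {I W Y : Type*} [Fintype I] [DecidableEq I] [Group W] [Group Y] {M : CoxeterMatrix I}
  {cs : CoxeterSystem M W} {A : I → I → ℤ} {h : IsCartan M A} {p : ℕ} {T : Subgroup Y} {n : I → Y}
  {X : (I → ℤ) → Subgroup Y}

section Cells

variable [Finite W] (R : RGD cs h p T n X) (hG : GG cs h T X = ⊤)

include hG in
theorem exists_cell (x : Y) : ∃ w, Cell R.nsys cs h X w x := (mem_GG R).1 (by rw [hG]; exact Subgroup.mem_top x)

/-- the cell of an element -/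
noncomputable def wd (x : Y) : W := (exists_cell R hG x).choose

theorem wd_spec (x : Y) : Cell R.nsys cs h X (wd R hG x) x := (exists_cell R hG x).choose_spec

theorem wd_eq {x : Y} {w : W} (hx : Cell R.nsys cs h X w x) : wd R hG x = w := (wd_spec R hG x).unique R hx

/-- the simple roots made negative by the cell of `x` -/
def Dx (x : Y) : Set I := {i | rep cs h (wd R hG x) (sr i) ≤ 0}

/-- **(ii)** -/
theorem mem_VJ_iff_of_subset {g : Y} (hg : g ∈ RGD.Sup X (RGD.Pos cs h)) {K : Finset I} {x : Y}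
    (hK : (K : Set I) ⊆ Dx R hG x) : x⁻¹ * g * x ∈ VJ cs h X (K : Set I) ↔ x⁻¹ * g * x ∈ RGD.Sup X (RGD.Pos cs h) := by
  refine ⟨fun h1 => VJ_le_U _ h1, fun h1 => ?_⟩
  obtain ⟨b₁, hb₁, k, hk, b₂, hb₂, e⟩ := wd_spec R hG x
  set w := wd R hG x with hw
  have hU1 := mem_normalizer_iff_cj.1 (R.B_le_normalizer_U (inv_mem hb₁))
  have hU2 := mem_normalizer_iff_cj.1 (R.B_le_normalizer_U hb₂)
  -- `u = b₁⁻¹ g b₁`
  have hu : b₁⁻¹ * g * b₁ ∈ RGD.Sup X (RGD.Pos cs h) := by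
    have h2 : b₁⁻¹ * g * b₁⁻¹⁻¹ ∈ cj b₁⁻¹ (RGD.Sup X (RGD.Pos cs h)) := conj_mem_cj.2 hg
    rwa [hU1, inv_inv] at h2
  have hku : k⁻¹ * (b₁⁻¹ * g * b₁) * k ∈ RGD.Sup X (RGD.Pos cs h) := by
    have h2 : b₂ * (x⁻¹ * g * x) * b₂⁻¹ ∈ cj b₂ (RGD.Sup X (RGD.Pos cs h)) := conj_mem_cj.2 h1
    rw [hU2] at h2
    have h3 : b₂ * (x⁻¹ * g * x) * b₂⁻¹ = k⁻¹ * (b₁⁻¹ * g * b₁) * k := by rw [e]; group
    rwa [h3] at h2
  have h2 := mem_PW_of_conj R hk hu (RGD.U_le_B hku)
  have h3 : k⁻¹ * (b₁⁻¹ * g * b₁) * k ∈ VJ cs h X (K : Set I) := by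
    refine conj_mem_Sup' R hk (fun y hy => hy.1) (fun y hy => ?_) h2
    obtain ⟨hy, hy0, hy1⟩ := hy
    rcases mem_PosJ_or_NotJ (K : Set I) (hy.act w⁻¹) hy1 with h4 | h4
    · exfalso
      have h5 : rep cs h w (rep cs h w⁻¹ y) ≤ 0 := by
        rw [map_eq_sum (rep cs h w) (rep cs h w⁻¹ y)]
        refine Finset.sum_nonpos fun m _ => ?_
        by_cases hm : m ∈ K
        · exact smul_nonpos_of_nonneg_of_nonpos (h4.2.1 m) (hK hm)
        · rw [h4.2.2 m hm, zero_smul]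
      rw [rep_apply_inv] at h5
      exact hy.not_pos_neg hy0 h5
    · exact h4
  have hV := mem_normalizer_iff_cj.1 (PJ_le_normalizer_VJ R (K : Set I) (B_le_PJ (inv_mem hb₂)))
  have h4 : b₂⁻¹ * (k⁻¹ * (b₁⁻¹ * g * b₁) * k) * b₂⁻¹⁻¹ ∈ cj b₂⁻¹ (VJ cs h X (K : Set I)) := conj_mem_cj.2 h3
  rw [hV] at h4
  have h5 : b₂⁻¹ * (k⁻¹ * (b₁⁻¹ * g * b₁) * k) * b₂⁻¹⁻¹ = x⁻¹ * g * x := by rw [e]; group
  rwa [h5] at h4

/-- **(i)** -/
theorem Dx_eq_empty_iff {x : Y} : Dx R hG x = ∅ ↔ x ∈ RGD.B cs h T X := by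
  constructor
  · intro h1
    have h2 : wd R hG x = 1 := by
      refine eq_one_of_nonneg cs h _ fun i => ?_
      have h3 : i ∉ Dx R hG x := by rw [h1]; exact Set.notMem_empty i
      exact nonneg_or ((isRoot_sr cs h i).act _) h3
    have h3 := wd_spec R hG x
    rw [h2] at h3
    exact h3.mem_of_one
  · intro h1
    have h2 : wd R hG x = 1 := wd_eq R hG (cell_one_of_mem h1)
    rw [Set.eq_empty_iff_forall_notMem]
    intro i hi
    have h3 : rep cs h (wd R hG x) (sr i) ≤ 0 := hi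
    rw [h2, map_one, Module.End.one_apply] at h3
    exact (isRoot_sr cs h i).not_pos_neg (sr_nonneg i) h3

/-- the number of elements of the cell of the longest element of `K` -/
theorem card_cell_wJ [Finite Y] (K : Set I) : Nat.card {z : Y // Cell R.nsys cs h X (wJ cs K) z} =
    Nat.card (UJ cs h X K) * Nat.card (RGD.B cs h T X) := by
  obtain ⟨k, hk⟩ := exists_rp cs R.nsys (wJ cs K)
  have hl := isLongest_wJ cs K
  rw [← Nat.card_prod]
  symm
  refine Nat.card_congr (Equiv.ofBijective (fun q : UJ cs h X K × RGD.B cs h T X =>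
    (⟨q.1 * k * q.2, q.1, BJ_le_B K (UJ_le_BJ q.1.2), k, hk, q.2, q.2.2, rfl⟩ :
      {z : Y // Cell R.nsys cs h X (wJ cs K) z})) ⟨?_, ?_⟩)
  · rintro ⟨⟨u, hu⟩, ⟨b, hb⟩⟩ ⟨⟨u', hu'⟩, ⟨b', hb'⟩⟩ e
    have e : u * k * b = u' * k * b' := congrArg Subtype.val e
    have h1 : k⁻¹ * (u'⁻¹ * u) * k ∈ UN cs h X := by
      refine conj_mem_Sup' R hk (S := PosJ cs h K) (S' := Neg cs h) (fun x hx => hx.1) (fun x hx => ?_)
        (mul_mem (inv_mem hu') hu)
      refine ⟨hx.1.act _, ?_⟩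
      rw [hl.inv_eq]
      exact rep_longest_nonpos hl hx
    have h2 : k⁻¹ * (u'⁻¹ * u) * k ∈ RGD.B cs h T X := by
      have : k⁻¹ * (u'⁻¹ * u) * k = b' * b⁻¹ := by
        have h3 : u = u' * k * b' * b⁻¹ * k⁻¹ := by rw [← e]; group
        rw [h3]; group
      rw [this]
      exact mul_mem hb' (inv_mem hb)
    have h3 := eq_one_of_mem_UN_of_mem_B R h1 h2
    have h4 : u = u' := by
      have h5 : u = u' * (k * (k⁻¹ * (u'⁻¹ * u) * k) * k⁻¹) := by group
      rw [h5, h3]; group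
    subst h4
    have h5 : b = b' := mul_left_cancel e
    subst h5
    rfl
  · rintro ⟨z, b₁, hb₁, k', hk', b₂, hb₂, rfl⟩
    obtain ⟨t, ht, a, ha, rfl⟩ := R.mem_B.1 hb₁
    have ha' : t * a * t⁻¹ ∈ RGD.Sup X (RGD.Pos cs h) :=
      (Subgroup.mem_normalizer_iff.1 (R.T_le_normalizer_U ht) a).1 ha
    obtain ⟨u, hu, v, hv, e⟩ := (mem_U_iff R (J := K)).1 ha'
    have h1 : k⁻¹ * v * k ∈ VJ cs h X K :=
      conj_mem_Sup' R hk (fun x hx => hx.1) (fun x hx => NotJ.act (inv_mem hl.1) hx) hv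
    have h2 : k⁻¹ * t * k' ∈ T := by
      have h3 := (hk.inv.mul ((rp_of_mem (cs := cs) (hN := R.nsys) ht).mul hk'))
      rw [one_mul, inv_mul_cancel, ← mul_assoc] at h3
      exact h3.mem_of_one
    refine ⟨(⟨u, hu⟩, ⟨k⁻¹ * v * k * (k⁻¹ * t * k') * b₂, mul_mem (mul_mem (VJ_le_B K h1) (RGD.T_le_B h2)) hb₂⟩),
      Subtype.ext ?_⟩
    change u * k * (k⁻¹ * v * k * (k⁻¹ * t * k') * b₂) = t * a * k' * b₂
    have h4 : t * a = u * v * t := by rw [← e]; group
    rw [h4]; group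

include hG in
/-- elements of a coset of `P_K`: reduction to a minimal cell -/
theorem exists_min (K : Set I) (x : Y) : ∃ (w₁ : W) (x₁ q : Y), Cell R.nsys cs h X w₁ x₁ ∧ q ∈ PJ cs h T X K ∧
    x = x₁ * q ∧ IsMinR cs K w₁ := by
  obtain ⟨b₁, hb₁, k, hk, b₂, hb₂, e⟩ := wd_spec R hG x
  obtain ⟨w₁, hmin, u, hu, e'⟩ := exists_isMinR cs K (wd R hG x)
  obtain ⟨n₁, hn₁⟩ := exists_rp cs R.nsys w₁
  have h1 : Rp cs R.nsys u (n₁⁻¹ * k) := by
    have := hn₁.inv.mul hk
    rwa [e', inv_mul_cancel_left] at this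
  refine ⟨w₁, b₁ * n₁, n₁⁻¹ * k * b₂, (cell_of_rp hn₁).mul_left hb₁,
    mul_mem (LJ_le_PJ (rp_mem_LJ R hu h1)) (B_le_PJ hb₂), by rw [e]; group, hmin⟩

/-- **(b)** the number of `l ∈ P_K` with `K ⊆ D (x l)` -/
theorem card_fiber [Finite Y] (K : Finset I) (x : Y) :
    Nat.card {l : PJ cs h T X (K : Set I) // (K : Set I) ⊆ Dx R hG (x * l)} =
      Nat.card (UJ cs h X (K : Set I)) * Nat.card (RGD.B cs h T X) := by
  obtain ⟨w₁, x₁, q, hx₁, hq, e, hmin⟩ := exists_min R hG (K : Set I) x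
  rw [← card_cell_wJ R (K : Set I)]
  have hl := isLongest_wJ cs (K : Set I)
  have hpos : ∀ k ∈ (K : Set I), 0 ≤ rep cs h w₁ (sr k) := fun k hk =>
    nonneg_of_lt cs h w₁ k ((isMinR_iff cs).1 hmin k hk)
  have key : ∀ z ∈ PJ cs h T X (K : Set I), (K : Set I) ⊆ Dx R hG (x₁ * z) ↔
      Cell R.nsys cs h X (wJ cs (K : Set I)) z := by
    intro z hz
    obtain ⟨v, hv, hc⟩ := (mem_PJ_iff_cell R).1 hz
    have h1 : wd R hG (x₁ * z) = w₁ * v := wd_eq R hG (Cell.mul_of_length R (hmin v hv) hx₁ hc)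
    have h2 : (K : Set I) ⊆ Dx R hG (x₁ * z) ↔ ∀ k ∈ K, rep cs h v (sr k) ≤ 0 := by
      constructor
      · intro h3 k hk
        have h4 : rep cs h (wd R hG (x₁ * z)) (sr k) ≤ 0 := h3 hk
        rw [h1, rep_mul_apply] at h4
        by_contra hcon
        have hr := RootsJ.act hv (PosJ_subset (cs := cs) (h := h) (K : Set I) (sr_mem_PosJ hk))
        have h5 := rep_nonneg_of hpos (x := rep cs h v (sr k)) ⟨hr.1, nonneg_or hr.1 hcon, hr.2⟩
        exact (hr.1.act w₁).not_pos_neg h5 h4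
      · intro h3 k hk
        change rep cs h (wd R hG (x₁ * z)) (sr k) ≤ 0
        rw [h1, rep_mul_apply]
        have hr := RootsJ.act hv (PosJ_subset (cs := cs) (h := h) (K : Set I) (sr_mem_PosJ hk))
        have h5 := rep_nonneg_of hpos (x := -rep cs h v (sr k)) ⟨hr.1.neg, neg_nonneg.2 (h3 k hk), (RootsJ.neg hr).2⟩
        rw [map_neg] at h5
        exact neg_nonneg.1 h5
    rw [h2]
    constructor
    · intro h3
      have h4 : v * wJ cs (K : Set I) = 1 := by
        refine eq_one_of_WJ (h := h) (J := (K : Set I)) (mul_mem hv hl.1) fun k hk => ?_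
        rw [rep_mul_apply]
        have hr := RootsJ.act hl.1 (PosJ_subset (cs := cs) (h := h) (K : Set I) (sr_mem_PosJ hk))
        have h5 : -rep cs h (wJ cs (K : Set I)) (sr k) ∈ PosJ cs h (K : Set I) :=
          ⟨hr.1.neg, neg_nonneg.2 (rep_longest_nonpos hl (sr_mem_PosJ hk)), (RootsJ.neg hr).2⟩
        have h6 : rep cs h v (-rep cs h (wJ cs (K : Set I)) (sr k)) ≤ 0 := by
          rw [map_eq_sum (rep cs h v)]
          refine Finset.sum_nonpos fun m _ => ?_
          by_cases hm : m ∈ K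
          · exact smul_nonpos_of_nonneg_of_nonpos (h5.2.1 m) (h3 m hm)
          · rw [h5.2.2 m hm, zero_smul]
        rw [map_neg] at h6
        exact neg_nonpos.1 h6
      have h5 : v = wJ cs (K : Set I) := by rw [eq_inv_of_mul_eq_one_left h4, hl.inv_eq]
      rwa [h5] at hc
    · intro h3 k hk
      rw [Cell.unique R hc h3]
      exact rep_longest_nonpos hl (sr_mem_PosJ hk)
  refine Nat.card_congr ⟨fun l => ⟨q * l.1, ?_⟩, fun z => ⟨⟨q⁻¹ * z.1, ?_⟩, ?_⟩, ?_, ?_⟩
  · rw [← key _ (mul_mem hq l.1.2), ← mul_assoc, ← e]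
    exact l.2
  · exact mul_mem (inv_mem hq) ((cell_mem_PJ_iff R z.2).2 hl.1)
  · change (K : Set I) ⊆ Dx R hG (x * (q⁻¹ * z.1))
    rw [e, mul_assoc, mul_inv_cancel_left, key _ ((cell_mem_PJ_iff R z.2).2 hl.1)]
    exact z.2
  · intro l
    exact Subtype.ext (Subtype.ext (inv_mul_cancel_left q _))
  · intro z
    exact Subtype.ext (mul_inv_cancel_left q _)

end Cells

theorem card_eq_sum {α β : Type*} [Fintype α] [Semiring β] (P : α → Prop) [DecidablePred P] :
    (Nat.card {x // P x} : β) = ∑ x, if P x then (1 : β) else 0 := by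
  rw [Nat.card_eq_fintype_card, Fintype.card_subtype, Finset.card_filter, Nat.cast_sum]
  exact Finset.sum_congr rfl fun x _ => by split_ifs <;> simp

section Count

variable [Finite W] [Finite Y] (R : RGD cs h p T n X) (hG : GG cs h T X = ⊤)

/-- membership in `x V_K x⁻¹` depends on the coset `x P_K` only -/
theorem mem_VJ_mul_iff (R : RGD cs h p T n X) {K : Set I} {g x l : Y} (hl : l ∈ PJ cs h T X K) :
    (x * l)⁻¹ * g * (x * l) ∈ VJ cs h X K ↔ x⁻¹ * g * x ∈ VJ cs h X K := by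
  have h1 := mem_normalizer_iff_cj.1 (PJ_le_normalizer_VJ R K hl)
  have h2 : (x * l)⁻¹ * g * (x * l) = l⁻¹ * (x⁻¹ * g * x) * l := by group
  rw [h2]
  conv_rhs => rw [← h1]
  exact mem_cj.symm

include R in
/-- **(iv)** -/
theorem card_eq_fixV (K : Finset I) (g : Y) : Nat.card {x : Y // x⁻¹ * g * x ∈ VJ cs h X (K : Set I)} =
    Nat.card (PJ cs h T X (K : Set I)) * fixV cs h T X K g := by
  classical
  have := Fintype.ofFinite Y
  have := Fintype.ofFinite (Y ⧸ PJ cs h T X (K : Set I))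
  have h1 := sum_eq_card_mul (α := ℕ) (PJ cs h T X (K : Set I))
    (fun x => if x⁻¹ * g * x ∈ VJ cs h X (K : Set I) then 1 else 0) (fun x l hl => by
      simp only [mem_VJ_mul_iff R hl])
  rw [← card_eq_sum, ← card_eq_sum] at h1
  exact_mod_cast h1

/-- **(iii)** -/
theorem double_count (K : Finset I) (g : Y) :
    Nat.card (UJ cs h X (K : Set I)) * Nat.card (RGD.B cs h T X) *
        Nat.card {x : Y // x⁻¹ * g * x ∈ VJ cs h X (K : Set I)} =
      Nat.card (PJ cs h T X (K : Set I)) *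
        Nat.card {x : Y // x⁻¹ * g * x ∈ VJ cs h X (K : Set I) ∧ (K : Set I) ⊆ Dx R hG x} := by
  classical
  have := Fintype.ofFinite Y
  have := Fintype.ofFinite (PJ cs h T X (K : Set I))
  set f : Y → ℕ := fun x => if x⁻¹ * g * x ∈ VJ cs h X (K : Set I) ∧ (K : Set I) ⊆ Dx R hG x then 1 else 0 with hf
  have h1 : ∑ l : PJ cs h T X (K : Set I), ∑ x : Y, f (x * l) = ∑ x : Y, ∑ l : PJ cs h T X (K : Set I), f (x * l) :=
    Finset.sum_comm
  have h2 : ∀ l : PJ cs h T X (K : Set I), ∑ x : Y, f (x * l) = ∑ x : Y, f x := fun l =>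
    Equiv.sum_comp (Equiv.mulRight (l : Y)) f
  have h3 : ∀ x : Y, ∑ l : PJ cs h T X (K : Set I), f (x * l) =
      (Nat.card (UJ cs h X (K : Set I)) * Nat.card (RGD.B cs h T X)) *
        (if x⁻¹ * g * x ∈ VJ cs h X (K : Set I) then 1 else 0) := by
    intro x
    rw [← card_fiber R hG K x]
    split_ifs with hx
    · rw [mul_one, ← Nat.cast_id (Nat.card _), card_eq_sum (β := ℕ)]
      refine Finset.sum_congr rfl fun l _ => ?_
      simp only [hf, mem_VJ_mul_iff R l.2, hx, true_and]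
    · rw [mul_zero]
      refine Finset.sum_eq_zero fun l _ => ?_
      simp only [hf, mem_VJ_mul_iff R l.2, hx, false_and, if_false]
  rw [Finset.sum_congr rfl fun l _ => h2 l, Finset.sum_congr rfl fun x _ => h3 x, ← Finset.mul_sum,
    Finset.sum_const, Finset.card_univ, ← Nat.card_eq_fintype_card, smul_eq_mul, hf, ← card_eq_sum,
    ← card_eq_sum] at h1
  exact_mod_cast h1.symm

/-- **(v)** -/
theorem fixV_mul_card {g : Y} (hg : g ∈ RGD.Sup X (RGD.Pos cs h)) (K : Finset I) :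
    Nat.card (UJ cs h X (K : Set I)) * fixV cs h T X K g * Nat.card (RGD.B cs h T X) =
      Nat.card {x : Y // x⁻¹ * g * x ∈ RGD.Sup X (RGD.Pos cs h) ∧ (K : Set I) ⊆ Dx R hG x} := by
  have h1 := double_count R hG K g
  rw [card_eq_fixV R] at h1
  have h2 : Nat.card {x : Y // x⁻¹ * g * x ∈ VJ cs h X (K : Set I) ∧ (K : Set I) ⊆ Dx R hG x} =
      Nat.card {x : Y // x⁻¹ * g * x ∈ RGD.Sup X (RGD.Pos cs h) ∧ (K : Set I) ⊆ Dx R hG x} :=
    Nat.card_congr (Equiv.subtypeEquivRight fun x => and_congr_left fun hK => mem_VJ_iff_of_subset R hG hg hK)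
  rw [h2] at h1
  have h3 : 0 < Nat.card (PJ cs h T X (K : Set I)) := Nat.card_pos
  refine Nat.eq_of_mul_eq_mul_left h3 ?_
  rw [← h1]
  ring

include R hG in
/-- the coefficient at the elements of `U` is one -/
theorem coef_of_mem_U {g : Y} (hg : g ∈ RGD.Sup X (RGD.Pos cs h)) : coef cs h T X g = 1 := by
  classical
  have := Fintype.ofFinite Y
  have hB : (0 : ℤ) < (Nat.card (RGD.B cs h T X) : ℤ) := by exact_mod_cast Nat.card_pos
  have h1 : coef cs h T X g * (Nat.card (RGD.B cs h T X) : ℤ) = (Nat.card (RGD.B cs h T X) : ℤ) := by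
    unfold coef
    rw [Finset.sum_mul]
    have h2 : ∀ K : Finset I, (-1 : ℤ) ^ K.card * (Nat.card (UJ cs h X (K : Set I)) : ℤ) * (fixV cs h T X K g : ℤ) *
        (Nat.card (RGD.B cs h T X) : ℤ) = ∑ x : Y, (if x⁻¹ * g * x ∈ RGD.Sup X (RGD.Pos cs h) then
          (if (K : Set I) ⊆ Dx R hG x then (-1 : ℤ) ^ K.card else 0) else 0) := by
      intro K
      have h3 := fixV_mul_card R hG hg K
      have h4 : (-1 : ℤ) ^ K.card * (Nat.card (UJ cs h X (K : Set I)) : ℤ) * (fixV cs h T X K g : ℤ) *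
          (Nat.card (RGD.B cs h T X) : ℤ) = (-1 : ℤ) ^ K.card *
          ((Nat.card (UJ cs h X (K : Set I)) * fixV cs h T X K g * Nat.card (RGD.B cs h T X) : ℕ) : ℤ) := by
        push_cast; ring
      rw [h4, h3, card_eq_sum (β := ℤ), Finset.mul_sum]
      refine Finset.sum_congr rfl fun x _ => ?_
      by_cases ha : x⁻¹ * g * x ∈ RGD.Sup X (RGD.Pos cs h) <;> by_cases hb : (K : Set I) ⊆ Dx R hG x <;>
        simp [ha, hb]
    rw [Finset.sum_congr rfl fun K _ => h2 K, Finset.sum_comm]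
    have h5 : ∀ x : Y, ∑ K : Finset I, (if x⁻¹ * g * x ∈ RGD.Sup X (RGD.Pos cs h) then
          (if (K : Set I) ⊆ Dx R hG x then (-1 : ℤ) ^ K.card else 0) else 0) =
        if x ∈ RGD.B cs h T X then 1 else 0 := by
      intro x
      have h6 : ∑ K : Finset I, (if (K : Set I) ⊆ Dx R hG x then (-1 : ℤ) ^ K.card else 0) =
          if x ∈ RGD.B cs h T X then 1 else 0 := by
        have h7 : ∀ K : Finset I, (K : Set I) ⊆ Dx R hG x ↔ K ∈ (Set.toFinite (Dx R hG x)).toFinset.powerset := by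
          intro K
          rw [Finset.mem_powerset]
          constructor
          · intro h8 i hi
            exact (Set.Finite.mem_toFinset _).2 (h8 hi)
          · intro h8 i hi
            exact (Set.Finite.mem_toFinset _).1 (h8 hi)
        simp only [h7]
        rw [Finset.sum_ite_mem, Finset.univ_inter, Finset.sum_powerset_neg_one_pow_card]
        have h8 : (Set.toFinite (Dx R hG x)).toFinset = ∅ ↔ x ∈ RGD.B cs h T X := by
          rw [← Dx_eq_empty_iff R hG]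
          simp
        simp only [h8]
      by_cases ha : x⁻¹ * g * x ∈ RGD.Sup X (RGD.Pos cs h)
      · simp only [ha, if_true]
        exact h6
      · simp only [ha, if_false, Finset.sum_const_zero]
        rw [if_neg]
        intro hx
        apply ha
        have h7 := mem_normalizer_iff_cj.1 (R.B_le_normalizer_U hx)
        rw [← h7] at hg
        exact mem_cj.1 hg
    rw [Finset.sum_congr rfl fun x _ => h5 x, ← card_eq_sum (β := ℤ)]
  have h3 : (coef cs h T X g - 1) * (Nat.card (RGD.B cs h T X) : ℤ) = 0 := by rw [sub_mul, h1]; ring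
  rcases mul_eq_zero.1 h3 with h4 | h4
  · omega
  · omega

/-- `coef` is a class function -/
theorem coef_conj (R : RGD cs h p T n X) (g y : Y) : coef cs h T X (y * g * y⁻¹) = coef cs h T X g := by
  unfold coef
  refine Finset.sum_congr rfl fun K _ => ?_
  have h1 : fixV cs h T X K (y * g * y⁻¹) = fixV cs h T X K g := by
    have h2 := card_eq_fixV R K g
    have h3 := card_eq_fixV R K (y * g * y⁻¹)
    have h4 : Nat.card {x : Y // x⁻¹ * (y * g * y⁻¹) * x ∈ VJ cs h X (K : Set I)} =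
        Nat.card {x : Y // x⁻¹ * g * x ∈ VJ cs h X (K : Set I)} := by
      refine Nat.card_congr ⟨fun x => ⟨y⁻¹ * x.1, ?_⟩, fun x => ⟨y * x.1, ?_⟩, ?_, ?_⟩
      · have h5 : (y⁻¹ * x.1)⁻¹ * g * (y⁻¹ * x.1) = x.1⁻¹ * (y * g * y⁻¹) * x.1 := by group
        rw [h5]; exact x.2
      · have h5 : (y * x.1)⁻¹ * (y * g * y⁻¹) * (y * x.1) = x.1⁻¹ * g * x.1 := by group
        rw [h5]; exact x.2
      · intro x; exact Subtype.ext (mul_inv_cancel_left y _)
      · intro x; exact Subtype.ext (inv_mul_cancel_left y _)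
    rw [h4, h2] at h3
    exact (Nat.eq_of_mul_eq_mul_left Nat.card_pos h3).symm
  rw [h1]

/-- the coefficients vanish outside the `p`-elements -/
theorem coef_of_not_mem [Fact p.Prime] (R : RGD cs h p T n X) {g : Y} (hg : g ∉ pel Y p) :
    coef cs h T X g = 0 := by
  unfold coef
  refine Finset.sum_eq_zero fun K _ => ?_
  have h1 : fixV cs h T X K g = 0 := by
    unfold fixV
    have : IsEmpty {x : Y ⧸ PJ cs h T X (K : Set I) //
        (Quotient.out x)⁻¹ * g * Quotient.out x ∈ VJ cs h X (K : Set I)} := by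
      refine ⟨fun x => hg ?_⟩
      have hV : IsPGroup p (VJ cs h X (K : Set I)) := R.isPGroup_of_pos fun _ hx => ⟨hx.1, hx.2.1⟩
      obtain ⟨k, hk⟩ := (IsPGroup.iff_orderOf.1 hV) ⟨_, x.2⟩
      rw [mem_pel]
      refine ⟨k, ?_⟩
      rw [← hk, Subgroup.orderOf_mk]
      have h2 : (Quotient.out x.1)⁻¹ * g * Quotient.out x.1 = MulAut.conj (Quotient.out x.1)⁻¹ g := by
        rw [MulAut.conj_apply, inv_inv]
      rw [h2]
      exact (MulEquiv.orderOf_eq _ g).symm
    exact Nat.card_of_isEmpty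
  rw [h1, Nat.cast_zero, mul_zero]

/-- `U` is a Sylow `p`-subgroup -/
theorem exists_conj_mem_U [Fact p.Prime] (R : RGD cs h p T n X) (hG : GG cs h T X = ⊤) {g : Y}
    (hg : g ∈ pel Y p) : ∃ y : Y, y * g * y⁻¹ ∈ RGD.Sup X (RGD.Pos cs h) := by
  have hU : IsPGroup p (RGD.Sup X (RGD.Pos cs h)) := R.isPGroup_Upos
  obtain ⟨P, hP⟩ := hU.exists_le_sylow
  have hPU : (P : Subgroup Y) = RGD.Sup X (RGD.Pos cs h) :=
    Cfsg.Agent.Nodes.NormalForm.eq_U_of_isPGroup R P.isPGroup' hP (by rw [hG]; exact le_top)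
  obtain ⟨k, hk⟩ := mem_pel.1 hg
  have hz : IsPGroup p (Subgroup.zpowers g) :=
    IsPGroup.of_card (n := k) (by rw [Nat.card_zpowers, hk])
  obtain ⟨Q, hQ⟩ := hz.exists_le_sylow
  obtain ⟨y, hy⟩ := MulAction.exists_smul_eq Y Q P
  refine ⟨y, ?_⟩
  rw [← hPU, ← hy]
  have h1 : g ∈ (Q : Subgroup Y) := hQ (Subgroup.mem_zpowers g)
  rw [Sylow.smul_def, Sylow.pointwise_smul_def]
  exact Subgroup.smul_mem_pointwise_smul g (MulAut.conj y) _ h1

/-- **the coefficients** -/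
theorem coef_eq_one [Fact p.Prime] (R : RGD cs h p T n X) (hG : GG cs h T X = ⊤) {g : Y} (hg : g ∈ pel Y p) :
    coef cs h T X g = 1 := by
  obtain ⟨y, hy⟩ := exists_conj_mem_U R hG hg
  rw [← coef_conj R g y]
  exact coef_of_mem_U R hG hy

end Count

end Cfsg.Agent.H631.Kaw
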