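import Mathlib
import Cfsg.Agent.Nodes.Reps

/-!
# Sums over subgroups in a ring with a group homomorphism (S4842, K-ALL, helper631)
-/

set_option autoImplicit false
set_option linter.unusedSectionVars false

namespace Cfsg.Agent.H631.Kaw

open Cfsg.Agent.Nodes.Reps

variable {G A : Type*} [Group G] [Finite G] [Ring A] (φ : G →* A)

/-- the sum over a subgroup -/
noncomputable def S (H : Subgroup G) : A := ∑ g ∈ (Set.toFinite (H : Set G)).toFinset, φ g

/-- the elements fixing `x` by left multiplication -/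
def LF (x : A) : Subgroup G where
  carrier := {g | φ g * x = x}
  one_mem' := by simp
  mul_mem' := by
    intro a b ha hb
    change φ (a * b) * x = x
    rw [map_mul, mul_assoc, show φ b * x = x from hb, show φ a * x = x from ha]
  inv_mem' := by
    intro a ha
    change φ a⁻¹ * x = x
    have h1 : φ a * x = x := ha
    calc φ a⁻¹ * x = φ a⁻¹ * (φ a * x) := by rw [h1]
      _ = φ (a⁻¹ * a) * x := by rw [map_mul, mul_assoc]
      _ = x := by rw [inv_mul_cancel, map_one, one_mul]

theorem mem_LF {x : A} {g : G} : g ∈ LF φ x ↔ φ g * x = x := Iff.rfl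

theorem inv_mul_apply (g : G) : φ g⁻¹ * φ g = 1 := by rw [← map_mul, inv_mul_cancel, map_one]

theorem mul_inv_apply (g : G) : φ g * φ g⁻¹ = 1 := by rw [← map_mul, mul_inv_cancel, map_one]

theorem S_eq_of_left {H : Subgroup G} {x : A} (hx : H ≤ LF φ x) : S φ H * x = (Nat.card H : A) * x := by
  unfold S
  rw [Finset.sum_mul]
  rw [Finset.sum_congr rfl (g := fun _ => x) fun g hg => hx ((Set.Finite.mem_toFinset _).1 hg)]
  rw [Finset.sum_const, nsmul_eq_mul]
  congr 2
  rw [← Set.ncard_eq_toFinset_card, ← Nat.card_coe_set_eq]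
  rfl

theorem left_S {H : Subgroup G} {g : G} (hg : g ∈ H) : φ g * S φ H = S φ H := by
  unfold S
  rw [Finset.mul_sum]
  refine Finset.sum_nbij' (fun x => g * x) (fun x => g⁻¹ * x) ?_ ?_ ?_ ?_ ?_
  · intro x hx
    rw [Set.Finite.mem_toFinset] at hx ⊢
    exact mul_mem hg hx
  · intro x hx
    rw [Set.Finite.mem_toFinset] at hx ⊢
    exact mul_mem (inv_mem hg) hx
  · intro x _; exact inv_mul_cancel_left g x
  · intro x _; exact mul_inv_cancel_left g x
  · intro x _; rw [map_mul]

theorem S_right {H : Subgroup G} {g : G} (hg : g ∈ H) : S φ H * φ g = S φ H := by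
  unfold S
  rw [Finset.sum_mul]
  refine Finset.sum_nbij' (fun x => x * g) (fun x => x * g⁻¹) ?_ ?_ ?_ ?_ ?_
  · intro x hx
    rw [Set.Finite.mem_toFinset] at hx ⊢
    exact mul_mem hx hg
  · intro x hx
    rw [Set.Finite.mem_toFinset] at hx ⊢
    exact mul_mem hx (inv_mem hg)
  · intro x _; exact mul_inv_cancel_right x g
  · intro x _; exact inv_mul_cancel_right x g
  · intro x _; rw [map_mul]

theorem S_eq_of_right {H : Subgroup G} {x : A} (hx : ∀ g ∈ H, x * φ g = x) : x * S φ H = (Nat.card H : A) * x := by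
  unfold S
  rw [Finset.mul_sum]
  rw [Finset.sum_congr rfl (g := fun _ => x) fun g hg => hx g ((Set.Finite.mem_toFinset _).1 hg)]
  rw [Finset.sum_const, nsmul_eq_mul]
  congr 2
  rw [← Set.ncard_eq_toFinset_card, ← Nat.card_coe_set_eq]
  rfl

/-- `S H * x = S H * y` type argument: a subgroup sum whose terms act alike -/
theorem mul_S_mul_of_forall {H : Subgroup G} {x y z : A} (hx : ∀ g ∈ H, x * φ g * y = z) :
    x * S φ H * y = (Nat.card H : A) * z := by
  unfold S
  rw [Finset.mul_sum, Finset.sum_mul]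
  rw [Finset.sum_congr rfl (g := fun _ => z) fun g hg => hx g ((Set.Finite.mem_toFinset _).1 hg)]
  rw [Finset.sum_const, nsmul_eq_mul]
  congr 2
  rw [← Set.ncard_eq_toFinset_card, ← Nat.card_coe_set_eq]
  rfl

theorem S_conj (g : G) (H : Subgroup G) : φ g * S φ H * φ g⁻¹ = S φ (cj g H) := by
  unfold S
  rw [Finset.mul_sum, Finset.sum_mul]
  refine Finset.sum_nbij' (fun x => g * x * g⁻¹) (fun x => g⁻¹ * x * g) ?_ ?_ ?_ ?_ ?_
  · intro x hx
    rw [Set.Finite.mem_toFinset] at hx ⊢
    exact conj_mem_cj.2 hx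
  · intro x hx
    rw [Set.Finite.mem_toFinset] at hx ⊢
    exact mem_cj.1 hx
  · intro x _; group
  · intro x _; group
  · intro x _; rw [map_mul, map_mul]

theorem comm_of_cj {g : G} {H : Subgroup G} (hg : cj g H = H) : φ g * S φ H = S φ H * φ g := by
  have h1 := S_conj φ g H
  rw [hg] at h1
  calc φ g * S φ H = φ g * S φ H * (φ g⁻¹ * φ g) := by rw [inv_mul_apply, mul_one]
    _ = φ g * S φ H * φ g⁻¹ * φ g := by rw [mul_assoc, mul_assoc, mul_assoc]
    _ = _ := by rw [h1]

theorem S_bot : S φ (⊥ : Subgroup G) = 1 := by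
  unfold S
  have h1 : (Set.toFinite ((⊥ : Subgroup G) : Set G)).toFinset = {1} := by
    ext x; simp
  rw [h1, Finset.sum_singleton, map_one]

theorem S_mul_S_of_le {H K : Subgroup G} (hle : K ≤ H) : S φ H * S φ K = (Nat.card K : A) * S φ H :=
  S_eq_of_right φ fun _ hg => S_right φ (hle hg)

theorem S_mul_S_of_le' {H K : Subgroup G} (hle : H ≤ K) : S φ H * S φ K = (Nat.card H : A) * S φ K :=
  S_eq_of_left φ fun _ hg => left_S φ (hle hg)

variable {φ}

/-- the order of a `p`-subgroup is a unit -/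
theorem isUnit_card {p : ℕ} [Fact p.Prime] (hp : IsUnit (p : A)) {H : Subgroup G} (hH : IsPGroup p H) :
    IsUnit ((Nat.card H : ℕ) : A) := by
  obtain ⟨n, hn⟩ := IsPGroup.iff_card.1 hH
  rw [hn, Nat.cast_pow]
  exact hp.pow n

/-- an element fixed from the left by a subgroup of unit order with sum zero is zero -/
theorem eq_zero_of_fix {H : Subgroup G} (hu : IsUnit ((Nat.card H : ℕ) : A)) (hS : S φ H = 0) {x : A}
    (hx : H ≤ LF φ x) : x = 0 := by
  have h1 := S_eq_of_left φ hx
  rw [hS, zero_mul] at h1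
  exact (hu.mul_right_eq_zero).1 h1.symm

end Cfsg.Agent.H631.Kaw
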