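import Mathlib
import Cfsg.Agent.H631.Kaw.Avg
import Cfsg.Agent.H631.Kaw.Root

/-!
# Injectivity of the idempotents of opposite parabolic subgroups (S4842, K-ALL, helper631)

`φ : Y →* E` a homomorphism to a ring where `p` is a unit; no nonzero element of `E` is fixed by the unipotent
radicals of the parabolic subgroups of rank smaller than `c`. Then for `|K| = c` and an element `a` fixed by the
unipotent radical `V_K` the sum over the opposite radical does not kill `a` (unless `a = 0`), and conversely.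
-/

set_option autoImplicit false
set_option linter.unusedSectionVars false

namespace Cfsg.Agent.H631.Kaw

open CoxeterSystem Cfsg.Agent.ChevalleyStructure.CoxeterGeom Cfsg.Agent.Tits.Roots Cfsg.Agent.Tits.Core
  Cfsg.Agent.Tits.Exchange Cfsg.Agent.Nodes.Reps Cfsg.Agent.Nodes.BNOf Cfsg.Agent.Nodes.StabComb
  Cfsg.Agent.Nodes.Bruhat Cfsg.Agent.Nodes.OppDec Cfsg.Agent.Nodes.LeviDec

variable {I W Y : Type*} [Fintype I] [DecidableEq I] [Group W] [Group Y] {M : CoxeterMatrix I}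
  {cs : CoxeterSystem M W} {A : I → I → ℤ} {h : IsCartan M A} {p : ℕ} {T : Subgroup Y} {n : I → Y}
  {X : (I → ℤ) → Subgroup Y}

/-! ### group level -/

theorem rp_congr (R : RGD cs h p T n X) {w : W} {g g' : Y} (hg : Rp cs R.nsys w g) (hg' : Rp cs R.nsys w g')
    (J : Set I) : cj g' (VJ cs h X J) = cj g (VJ cs h X J) := by
  have h1 : g' = g * (g⁻¹ * g') := by group
  rw [h1, cj_mul, mem_normalizer_iff_cj.1 (LJ_le_normalizer_VJ R J (T_le_LJ (hg.unique hg')))]

/-- the Levi subgroup of `K` normalises the conjugate `^y V_{K'}` -/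
theorem cj_cj_VJ (R : RGD cs h p T n X) {y : W} {K' K : Finset I} (hy : Pr cs h y K' K) {g : Y}
    (hg : Rp cs R.nsys y g) {l : Y} (hl : l ∈ LJ cs h T X (K : Set I)) :
    cj l (cj g (VJ cs h X (K' : Set I))) = cj g (VJ cs h X (K' : Set I)) := by
  have h1 : g⁻¹ * l * g ∈ LJ cs h T X (K' : Set I) := by
    have h2 : cj g⁻¹ (LJ cs h T X (K : Set I)) ≤ LJ cs h T X (K' : Set I) := by
      unfold LJ
      rw [cj_sup, cj_T R hg.inv]
      exact sup_le_sup_left (cj_Sup_le R hg.inv (fun x hx => hx.1) fun x hx => hy.inv.rootsJ hx) _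
    have h3 := h2 (conj_mem_cj.2 hl)
    rwa [inv_inv] at h3
  have h4 : l * g = g * (g⁻¹ * l * g) := by group
  rw [← cj_mul, h4, cj_mul, mem_normalizer_iff_cj.1 (LJ_le_normalizer_VJ R _ h1)]

/-- the positive roots of `T'` outside `K` -/
def Mid (cs : CoxeterSystem M W) (h : IsCartan M A) (K T' : Set I) : Set (I → ℤ) :=
  {x | x ∈ PosJ cs h T' ∧ x ∈ NotJ cs h K}

/-- `V_K = (V_K ∩ L_{T'}) V_{T'}` -/
theorem mem_VJ_split (R : RGD cs h p T n X) {K T' : Set I} {v : Y} (hv : v ∈ VJ cs h X K) :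
    ∃ l ∈ RGD.Sup X (Mid cs h K T'), ∃ u ∈ VJ cs h X T', v = l * u := by
  have h2 : VJ cs h X K ≤ RGD.Sup X (Mid cs h K T') ⊔ VJ cs h X T' := by
    refine RGD.Sup_le fun x hx => ?_
    rcases mem_PosJ_or_NotJ T' hx.1 hx.2.1 with h1 | h1
    · exact le_trans (RGD.le_Sup (S := Mid cs h K T') ⟨h1, hx⟩) le_sup_left
    · exact le_trans (RGD.le_Sup h1) le_sup_right
  have h1 : v ∈ ((RGD.Sup X (Mid cs h K T') ⊔ VJ cs h X T' : Subgroup Y) : Set Y) := h2 hv
  have h3 : RGD.Sup X (Mid cs h K T') ≤ LJ cs h T X T' := RGD.Sup_le fun _ hx => X_le_LJ (PosJ_subset T' hx.1)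
  rw [Subgroup.coe_mul_of_left_le_normalizer_right _ _ (le_trans h3 (LJ_le_normalizer_VJ R T')),
    Set.mem_mul] at h1
  obtain ⟨l, hl, u, hu, e⟩ := h1
  exact ⟨l, hl, u, hu, e.symm⟩

theorem VJ_anti {K T' : Set I} (hKT : K ⊆ T') : VJ cs h X T' ≤ VJ cs h X K :=
  RGD.Sup_mono fun _ hx => ⟨hx.1, hx.2.1, hx.2.2.choose, fun h1 => hx.2.2.choose_spec.1 (hKT h1),
    hx.2.2.choose_spec.2⟩

/-- elements of `^y V_{K'}` inside `P_K` are in `V_K` -/
theorem mem_VJ_of_mem_PJ [Finite W] (R : RGD cs h p T n X) {K' K : Finset I} {y : W} {j : I} (hj : j ∉ K')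
    (hyT : y ∈ WJ cs (insert j K' : Set I)) (hKT : (K : Set I) ⊆ (insert j K' : Set I)) (hy : Pr cs h y K' K)
    (hneg : rep cs h y (sr j) ≤ 0) {g : Y} (hg : Rp cs R.nsys y g) {u : Y}
    (hu : u ∈ cj g (VJ cs h X (K' : Set I))) (hP : u ∈ PJ cs h T X (K : Set I)) :
    u ∈ VJ cs h X (K : Set I) := by
  rw [mem_cj] at hu
  obtain ⟨l, hl, v, hv, e⟩ := mem_VJ_split R (T' := (insert j K' : Set I)) hu
  have h1 : g * l * g⁻¹ ∈ VNJ cs h X (K : Set I) := by
    refine conj_mem_Sup R hg (fun x hx => hx.2.1) (fun x hx => ?_) hl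
    refine rep_mem_NotNJ hy hj hneg hx.1 ?_
    obtain ⟨-, -, k, hk, hk0⟩ := hx.2
    have h2 : k = j := by
      by_contra hkj
      have h3 := hx.1.2.2 k (by
        rintro (h4 | h4)
        · exact hkj h4
        · exact hk h4)
      omega
    rwa [h2] at hk0
  have h2 : g * v * g⁻¹ ∈ VJ cs h X (insert j K' : Set I) :=
    conj_mem_Sup R hg (fun x hx => hx.1) (fun x hx => NotJ.act hyT hx) hv
  have h3 := VJ_anti hKT h2
  have h4 : u = (g * l * g⁻¹) * (g * v * g⁻¹) := by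
    have : u = g * (g⁻¹ * u * g) * g⁻¹ := by group
    rw [this, e]; group
  have h5 : g * l * g⁻¹ ∈ PJ cs h T X (K : Set I) := by
    have : g * l * g⁻¹ = u * (g * v * g⁻¹)⁻¹ := by rw [h4]; group
    rw [this]
    exact mul_mem hP (inv_mem (VJ_le_PJ h3))
  rw [h4, eq_one_of_mem_VNJ_of_mem_PJ R h1 h5, one_mul]
  exact h3

/-! ### the ring level -/

variable [Finite Y] {E : Type*} [Ring E] {φ : Y →* E}

theorem isUnit_VJ [Finite W] [Fact p.Prime] (R : RGD cs h p T n X) (hp : IsUnit (p : E)) (K : Set I) :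
    IsUnit ((Nat.card (VJ cs h X K) : ℕ) : E) :=
  isUnit_card hp (R.isPGroup_of_pos fun _ hx => ⟨hx.1, hx.2.1⟩)

/-- **(F1)** -/
theorem S_mul_eq_zero [Finite W] [Fact p.Prime] (R : RGD cs h p T n X) (hp : IsUnit (p : E)) {K : Finset I}
    (hsm : ∀ L : Finset I, L.card < K.card → S φ (VJ cs h X (L : Set I)) = 0) {J : Set I} {w : W} {g : Y}
    (hg : Rp cs R.nsys w g) (hw : ∀ k ∈ (K : Set I), 0 ≤ rep cs h w⁻¹ (sr k)) {k : I} (hk : k ∈ K)
    (hkJ : rep cs h w⁻¹ (sr k) ∉ RootsJ cs h J) {b : E} (hb : VJ cs h X J ≤ LF φ b) :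
    S φ (VJ cs h X (K : Set I)) * (φ g * b) = 0 := by
  refine eq_zero_of_fix (H := VJ cs h X ((K.erase k : Finset I) : Set I)) (isUnit_VJ R hp _)
    (hsm _ (Finset.card_erase_lt_of_mem hk)) (RGD.Sup_le fun x hx => ?_)
  intro u hu
  rw [mem_LF, ← mul_assoc]
  rcases mem_PosJ_or_NotJ (K : Set I) hx.1 hx.2.1 with h1 | h1
  · -- `x` a root of `K` with positive coordinate at `k`
    obtain ⟨-, -, m, hm, hm0⟩ := hx
    have h2 : m = k := by
      by_contra hmk
      have h3 : m ∉ K := fun h4 => hm (Finset.mem_coe.2 (Finset.mem_erase.2 ⟨hmk, h4⟩))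
      have := h1.2.2 m h3
      omega
    rw [h2] at hm0
    have h3 := rep_mem_NotJ hw hk hkJ h1 hm0
    have h4 : g⁻¹ * u * g ∈ VJ cs h X J := RGD.le_Sup h3 (R.conj_mem' hg h1.1 hu)
    have h5 : cj u (VJ cs h X (K : Set I)) = VJ cs h X (K : Set I) :=
      mem_normalizer_iff_cj.1 (LJ_le_normalizer_VJ R _ (X_le_LJ (PosJ_subset _ h1) hu))
    rw [comm_of_cj φ h5, mul_assoc]
    congr 1
    have h6 : φ u * (φ g * b) = φ g * (φ (g⁻¹ * u * g) * b) := by
      rw [← mul_assoc, ← mul_assoc, ← map_mul, ← map_mul]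
      congr 2
      group
    rw [h6, hb h4]
  · rw [left_S φ (show u ∈ VJ cs h X (K : Set I) from RGD.le_Sup h1 hu)]

/-- **(B)** the residue of corank one -/
theorem adj_inj [Finite W] [Fact p.Prime] (R : RGD cs h p T n X) (hp : IsUnit (p : E)) {K' K : Finset I}
    (hsm : ∀ L : Finset I, L.card < K.card → S φ (VJ cs h X (L : Set I)) = 0) {y : W} {j : I} (hj : j ∉ K')
    (hyT : y ∈ WJ cs (insert j K' : Set I)) (hKT : (K : Set I) ⊆ (insert j K' : Set I)) (hy : Pr cs h y K' K)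
    (hneg : rep cs h y (sr j) ≤ 0) {g : Y} (hg : Rp cs R.nsys y g) {b : E}
    (hb : VJ cs h X (K : Set I) ≤ LF φ b) (h0 : S φ (cj g (VJ cs h X (K' : Set I))) * b = 0) : b = 0 := by
  classical
  have key : ∀ u ∈ cj g (VJ cs h X (K' : Set I)), S φ (VJ cs h X (K : Set I)) * φ u * b =
      if u ∈ PJ cs h T X (K : Set I) then (Nat.card (VJ cs h X (K : Set I)) : E) * b else 0 := by
    intro u hu
    split_ifs with hP
    · rw [S_right φ (mem_VJ_of_mem_PJ R hj hyT hKT hy hneg hg hu hP), S_eq_of_left φ hb]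
    · -- `u ∈ P_T'`
      have hgT : g ∈ PJ cs h T X (insert j K' : Set I) := LJ_le_PJ (rp_mem_LJ R hyT hg)
      have huT : u ∈ PJ cs h T X (insert j K' : Set I) := by
        have h1 : u = g * (g⁻¹ * u * g) * g⁻¹ := by group
        rw [h1]
        exact mul_mem (mul_mem hgT (B_le_PJ (VJ_le_B _ (mem_cj.1 hu)))) (inv_mem hgT)
      obtain ⟨w, hw, hc⟩ := (mem_PJ_iff_cell R).1 huT
      obtain ⟨b₁, hb₁, k, hk, b₂, hb₂, e⟩ := id hc
      obtain ⟨x₁, hx₁, x₂, hx₂, y', e', hR, hL⟩ := exists_double (cs := cs) (h := h) (K : Set I) w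
      obtain ⟨n₁, hn₁⟩ := exists_rp cs R.nsys x₁
      obtain ⟨n₂, hn₂⟩ := exists_rp cs R.nsys x₂
      have hk' : Rp cs R.nsys y' (n₁⁻¹ * k * n₂⁻¹) := by
        have h1 := (hn₁.inv.mul hk).mul hn₂.inv
        have h2 : x₁⁻¹ * w * x₂⁻¹ = y' := by rw [e']; group
        rwa [h2] at h1
      set k' := n₁⁻¹ * k * n₂⁻¹ with hk'd
      have hp₁ : b₁ * n₁ ∈ PJ cs h T X (K : Set I) := mul_mem (B_le_PJ hb₁) (LJ_le_PJ (rp_mem_LJ R hx₁ hn₁))
      have hp₂ : n₂ * b₂ ∈ PJ cs h T X (K : Set I) := mul_mem (LJ_le_PJ (rp_mem_LJ R hx₂ hn₂)) (B_le_PJ hb₂)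
      have hu' : u = (b₁ * n₁) * k' * (n₂ * b₂) := by rw [e, hk'd]; group
      obtain ⟨l, hl, v, hv, el⟩ := (mem_PJ R).1 hp₂
      have h1 : φ (n₂ * b₂) * b = φ l * b := by
        rw [el, map_mul, mul_assoc, hb hv]
      have h2 : VJ cs h X (K : Set I) ≤ LF φ (φ l * b) := by
        intro v hv
        have h3 : l⁻¹ * v * l ∈ VJ cs h X (K : Set I) := by
          have := mem_normalizer_iff_cj.1 (LJ_le_normalizer_VJ R _ hl)
          rw [← this] at hv
          exact mem_cj.1 hv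
        have h4 : φ v * (φ l * b) = φ l * (φ (l⁻¹ * v * l) * b) := by
          rw [← mul_assoc, ← mul_assoc, ← map_mul, ← map_mul]
          congr 2
          group
        rw [mem_LF, h4, hb h3]
      have h3 : S φ (VJ cs h X (K : Set I)) * φ u * b =
          φ (b₁ * n₁) * (S φ (VJ cs h X (K : Set I)) * (φ k' * (φ l * b))) := by
        have h4 := comm_of_cj φ (mem_normalizer_iff_cj.1 (PJ_le_normalizer_VJ R _ hp₁))
        rw [hu', map_mul, map_mul, ← h1]
        calc S φ (VJ cs h X (K : Set I)) * (φ (b₁ * n₁) * φ k' * φ (n₂ * b₂)) * b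
            = S φ (VJ cs h X (K : Set I)) * φ (b₁ * n₁) * (φ k' * (φ (n₂ * b₂) * b)) := by
              simp only [mul_assoc]
          _ = _ := by rw [← h4, mul_assoc]
      rw [h3]
      rcases dich K hR hL with ⟨m, hm, hmK⟩ | hz
      · rw [S_mul_eq_zero R hp hsm hk' hL hm hmK h2, mul_zero]
      · -- the opposite case
        have hzT : y' ∈ WJ cs (insert j K' : Set I) := by
          have h4 : y' = x₁⁻¹ * w * x₂⁻¹ := by rw [e']; group
          rw [h4]
          exact mul_mem (mul_mem (inv_mem (WJ_mono cs hKT hx₁)) hw) (inv_mem (WJ_mono cs hKT hx₂))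
        have hz' := hz.inv
        rw [inv_inv] at hz'
        have hz1 : y' ≠ 1 := by
          intro h4
          apply hP
          rw [cell_mem_PJ_iff R hc, e', h4, mul_one]
          exact mul_mem hx₁ hx₂
        obtain ⟨h4, h5⟩ := eq_of_WJ hj hyT hKT hy hneg hzT hz' hz1
        have h6 : Rp cs R.nsys y k'⁻¹ := by
          have h7 := hk'.inv
          rwa [inv_eq_of_mul_eq_one_right h4] at h7
        have h7 : S φ (VJ cs h X (K : Set I)) * φ k' = φ k' * S φ (cj g (VJ cs h X (K' : Set I))) := by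
          rw [← rp_congr R hg h6, ← S_conj, inv_inv, h5, ← mul_assoc, ← mul_assoc, mul_inv_apply, one_mul]
        have h8 := comm_of_cj φ (cj_cj_VJ R hy hg hl)
        have h9 : S φ (VJ cs h X (K : Set I)) * (φ k' * (φ l * b)) = 0 := by
          rw [← mul_assoc, h7, mul_assoc, ← mul_assoc (S φ _) (φ l) b, ← h8, mul_assoc (φ l), h0, mul_zero,
            mul_zero]
        rw [h9, mul_zero]
  have h1 : S φ (VJ cs h X (K : Set I)) * S φ (cj g (VJ cs h X (K' : Set I))) * b = 0 := by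
    rw [mul_assoc, h0, mul_zero]
  set D : Subgroup Y := cj g (VJ cs h X (K' : Set I)) ⊓ PJ cs h T X (K : Set I) with hD
  have h2 : S φ (VJ cs h X (K : Set I)) * S φ (cj g (VJ cs h X (K' : Set I))) * b =
      (Nat.card D : E) * ((Nat.card (VJ cs h X (K : Set I)) : E) * b) := by
    conv_lhs => rw [show S φ (cj g (VJ cs h X (K' : Set I))) = ∑ u ∈ (Set.toFinite
      ((cj g (VJ cs h X (K' : Set I)) : Subgroup Y) : Set Y)).toFinset, φ u from rfl]
    rw [Finset.mul_sum, Finset.sum_mul]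
    rw [Finset.sum_congr rfl (g := fun u => if u ∈ PJ cs h T X (K : Set I) then
      (Nat.card (VJ cs h X (K : Set I)) : E) * b else 0) fun u hu => key u ((Set.Finite.mem_toFinset _).1 hu)]
    rw [← Finset.sum_filter, Finset.sum_const, nsmul_eq_mul]
    congr 2
    have h3 : Nat.card D = (D : Set Y).ncard := Nat.card_coe_set_eq _
    rw [h3, ← Set.ncard_coe_finset]
    congr 1
    ext u
    simp [hD]
  rw [h1] at h2
  have h3 : IsPGroup p D := by
    have h4 : IsPGroup p (cj g (VJ cs h X (K' : Set I))) :=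
      (R.isPGroup_of_pos (S := NotJ cs h (K' : Set I)) fun _ hx => ⟨hx.1, hx.2.1⟩).map _
    exact h4.to_le inf_le_left
  have h4 := ((isUnit_card hp h3).mul_right_eq_zero).1 h2.symm
  exact ((isUnit_VJ R hp _).mul_right_eq_zero).1 h4

/-- the middle idempotent of a gallery can be removed -/
theorem S_mul_middle (R : RGD cs h p T n X) {K' K₁ K : Finset I} {w₁ y : W} {j : I}
    (hyT : y ∈ WJ cs (insert j K' : Set I)) (hw₁ : Pr cs h w₁ K₁ K)
    (hpos : ∀ i ∈ (insert j K' : Set I), 0 ≤ rep cs h w₁ (sr i)) {g₁ g : Y} (hg₁ : Rp cs R.nsys w₁ g₁)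
    (hg : Rp cs R.nsys y g) {a : E} (ha : VJ cs h X (K : Set I) ≤ LF φ a) {v : Y}
    (hv : v ∈ cj g₁ (VJ cs h X (K₁ : Set I))) :
    S φ (cj (g₁ * g) (VJ cs h X (K' : Set I))) * φ v * a = S φ (cj (g₁ * g) (VJ cs h X (K' : Set I))) * a := by
  rw [mem_cj] at hv
  obtain ⟨l, hl, u, hu, e⟩ := mem_VJ_split R (T' := (insert j K' : Set I)) (inv_mem hv)
  have h1 : g₁ * u⁻¹ * g₁⁻¹ ∈ cj (g₁ * g) (VJ cs h X (K' : Set I)) := by
    rw [cj_mul]
    refine conj_mem_cj.2 (mem_cj.2 (VJ_anti (Set.subset_insert j (K' : Set I)) ?_))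
    exact conj_mem_Sup' R hg (fun x hx => hx.1) (fun x hx => NotJ.act (inv_mem hyT) hx) (inv_mem hu)
  have h2 : g₁ * l⁻¹ * g₁⁻¹ ∈ VJ cs h X (K : Set I) := by
    refine conj_mem_Sup R hg₁ (fun x hx => hx.2.1) (fun x hx => ?_) (inv_mem hl)
    refine mem_NotJ_of (hx.2.1.act w₁) (rep_nonneg_of hpos hx.1) ?_
    rw [hw₁.rootsJ_iff]
    exact not_mem_RootsJ_of_NotJ hx.2
  have h3 : v = (g₁ * u⁻¹ * g₁⁻¹) * (g₁ * l⁻¹ * g₁⁻¹) := by
    have h4 : g₁⁻¹ * v * g₁ = u⁻¹ * l⁻¹ := by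
      rw [← mul_inv_rev, ← e, inv_inv]
    have h5 : v = g₁ * (g₁⁻¹ * v * g₁) * g₁⁻¹ := by group
    rw [h5, h4]; group
  rw [h3, map_mul, ← mul_assoc, S_right φ h1, mul_assoc, ha h2]

/-- **(C)** galleries -/
theorem chain_inj [Finite W] [Fact p.Prime] (R : RGD cs h p T n X) (hp : IsUnit (p : E)) {K : Finset I}
    (hsm : ∀ L : Finset I, L.card < K.card → S φ (VJ cs h X (L : Set I)) = 0) {a : E}
    (ha : VJ cs h X (K : Set I) ≤ LF φ a) : ∀ {w : W} {K' : Finset I}, Pr cs h w K' K → ∀ {g : Y},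
    Rp cs R.nsys w g → S φ (cj g (VJ cs h X (K' : Set I))) * a = 0 → a = 0 := by
  intro w
  induction hn : cs.length w using Nat.strong_induction_on generalizing w with
  | _ N ih =>
  intro K' hw g hg h0
  by_cases hw1 : w = 1
  · rw [hw1] at hw hg
    rw [mem_normalizer_iff_cj.1 (LJ_le_normalizer_VJ R _ (T_le_LJ hg.mem_of_one)), hw.eq_of_one,
      S_eq_of_left φ ha] at h0
    exact ((isUnit_VJ R hp _).mul_right_eq_zero).1 h0
  · obtain ⟨j, w₁, y, K₁, hj, e, hyT, hKT, hy, hw₁, hneg, hpos, hlen⟩ := exists_step hw hw1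
    obtain ⟨g₁, hg₁⟩ := exists_rp cs R.nsys w₁
    have hgy : Rp cs R.nsys y (g₁⁻¹ * g) := by
      have h1 := hg₁.inv.mul hg
      rwa [e, inv_mul_cancel_left] at h1
    have hgg : g₁ * (g₁⁻¹ * g) = g := by group
    refine ih (cs.length w₁) (by omega) rfl hw₁ hg₁ ?_
    -- `b' = g₁⁻¹ S(^{w₁} V) a`
    have h1 : S φ (cj g (VJ cs h X (K' : Set I))) * S φ (cj g₁ (VJ cs h X (K₁ : Set I))) * a = 0 := by
      rw [mul_S_mul_of_forall φ (z := S φ (cj g (VJ cs h X (K' : Set I))) * a) (fun v hv => ?_), h0, mul_zero]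
      have h2 := S_mul_middle R hyT hw₁ hpos hg₁ hgy ha hv
      rwa [hgg] at h2
    have h2 : φ g₁⁻¹ * (S φ (cj g₁ (VJ cs h X (K₁ : Set I))) * a) = 0 := by
      have hc : K₁.card = K.card := hw₁.1
      refine adj_inj R hp (K' := K') (K := K₁) (fun L hL => hsm L (by omega)) hj hyT hKT hy hneg hgy ?_ ?_
      · intro v hv
        have h3 : φ v * (φ g₁⁻¹ * (S φ (cj g₁ (VJ cs h X (K₁ : Set I))) * a)) =
            φ g₁⁻¹ * (φ (g₁ * v * g₁⁻¹) * S φ (cj g₁ (VJ cs h X (K₁ : Set I))) * a) := by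
          rw [← mul_assoc, ← mul_assoc, ← mul_assoc, ← mul_assoc, ← map_mul, ← map_mul]
          congr 3
          group
        rw [mem_LF, h3, left_S φ (conj_mem_cj.2 hv)]
      · have h3 : S φ (cj (g₁⁻¹ * g) (VJ cs h X (K' : Set I))) * φ g₁⁻¹ =
            φ g₁⁻¹ * S φ (cj g (VJ cs h X (K' : Set I))) := by
          rw [cj_mul, ← S_conj φ g₁⁻¹, inv_inv, mul_assoc, mul_inv_apply, mul_one]
        rw [← mul_assoc, h3, mul_assoc, ← mul_assoc (S φ _), h1, mul_zero]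
    calc S φ (cj g₁ (VJ cs h X (K₁ : Set I))) * a
        = φ g₁ * (φ g₁⁻¹ * (S φ (cj g₁ (VJ cs h X (K₁ : Set I))) * a)) := by
          rw [← mul_assoc (φ g₁), mul_inv_apply, one_mul]
      _ = 0 := by rw [h2, mul_zero]

/-- the opposite radical as a conjugate -/
theorem exists_cj_eq_VNJ [Finite W] (R : RGD cs h p T n X) (K : Finset I) : ∃ (w : W) (K' : Finset I) (g : Y),
    Pr cs h w K' K ∧ Rp cs R.nsys w g ∧ VNJ cs h X (K : Set I) = cj g (VJ cs h X (K' : Set I)) := by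
  obtain ⟨w, K', hw, hn⟩ := exists_opp (cs := cs) (h := h) K
  obtain ⟨g, hg⟩ := exists_rp cs R.nsys w
  refine ⟨w, K', g, hw, hg, le_antisymm ?_ (cj_Sup_le R hg (fun x hx => hx.1) hn)⟩
  have h1 : cj g⁻¹ (VNJ cs h X (K : Set I)) ≤ VJ cs h X (K' : Set I) := by
    refine cj_Sup_le R hg.inv (fun x hx => NotNJ.isRoot hx) fun x hx => ?_
    have hx0 := NotNJ.isRoot hx
    have h2 : rep cs h w⁻¹ x ∉ RootsJ cs h (K' : Set I) := by
      rw [hw.inv.rootsJ_iff]
      intro h3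
      exact not_mem_RootsJ_of_NotJ hx (RootsJ.neg h3)
    refine mem_NotJ_of (hx0.act _) ?_ h2
    by_contra hcon
    have h3 : -rep cs h w⁻¹ x ∈ NotJ cs h (K' : Set I) := by
      refine mem_NotJ_of (hx0.act _).neg (neg_nonneg.2 (nonpos_or (hx0.act _) hcon)) fun h4 => h2 ?_
      have := RootsJ.neg h4
      rwa [neg_neg] at this
    have h4 := hn _ h3
    rw [map_neg, rep_apply_inv] at h4
    have h5 : -(-x) ∈ NotJ cs h (K : Set I) := h4
    rw [neg_neg] at h5
    exact hx0.not_pos_neg h5.2.1 (neg_nonneg.1 hx.2.1)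
  have h2 := cj_mono g h1
  rwa [cj_cj_inv] at h2

/-- **injectivity of the opposite idempotent** -/
theorem inj_pos [Finite W] [Fact p.Prime] (R : RGD cs h p T n X) (hp : IsUnit (p : E)) {K : Finset I}
    (hsm : ∀ L : Finset I, L.card < K.card → S φ (VJ cs h X (L : Set I)) = 0) {a : E}
    (ha : VJ cs h X (K : Set I) ≤ LF φ a) (h0 : S φ (VNJ cs h X (K : Set I)) * a = 0) : a = 0 := by
  obtain ⟨w, K', g, hw, hg, e⟩ := exists_cj_eq_VNJ R K
  rw [e] at h0
  exact chain_inj R hp hsm ha hw hg h0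

/-- the same with the two radicals exchanged -/
theorem inj_neg [Finite W] [Fact p.Prime] (R : RGD cs h p T n X) (hp : IsUnit (p : E)) {K : Finset I}
    (hsm : ∀ L : Finset I, L.card < K.card → S φ (VJ cs h X (L : Set I)) = 0) {a : E}
    (ha : VNJ cs h X (K : Set I) ≤ LF φ a) (h0 : S φ (VJ cs h X (K : Set I)) * a = 0) : a = 0 := by
  obtain ⟨w, K', g, hw, hg, e⟩ := exists_cj_eq_VNJ R K
  have hc : K'.card = K.card := hw.1
  have h1 : φ g⁻¹ * a = 0 := by
    refine chain_inj R hp (K := K') (fun L hL => hsm L (by omega)) (fun v hv => ?_) hw.inv hg.inv ?_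
    · have h2 : g * v * g⁻¹ ∈ VNJ cs h X (K : Set I) := by rw [e]; exact conj_mem_cj.2 hv
      have h3 : φ v * (φ g⁻¹ * a) = φ g⁻¹ * (φ (g * v * g⁻¹) * a) := by
        rw [← mul_assoc, ← mul_assoc, ← map_mul, ← map_mul]
        congr 2
        group
      rw [mem_LF, h3, ha h2]
    · rw [← S_conj φ g⁻¹, inv_inv, ← mul_assoc, mul_assoc _ (φ g) (φ g⁻¹), mul_inv_apply, mul_one, mul_assoc, h0,
        mul_zero]
  calc a = φ g * (φ g⁻¹ * a) := by rw [← mul_assoc, mul_inv_apply, one_mul]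
    _ = 0 := by rw [h1, mul_zero]

end Cfsg.Agent.H631.Kaw
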