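import Mathlib
import Cfsg.Agent.H631.Kaw.Defs
import Cfsg.Agent.H631.Kaw.Inj

/-!
# The element `∑ coef g • g` is regular (S4842, K-ALL, helper631)
-/

set_option autoImplicit false
set_option linter.unusedSectionVars false

namespace Cfsg.Agent.H631.Kaw

open CoxeterSystem Cfsg.Agent.ChevalleyStructure.CoxeterGeom Cfsg.Agent.Tits.Roots Cfsg.Agent.Tits.Core
  Cfsg.Agent.Tits.Exchange Cfsg.Agent.Nodes.Reps Cfsg.Agent.Nodes.BNOf Cfsg.Agent.Nodes.StabComb
  Cfsg.Agent.Nodes.Bruhat Cfsg.Agent.Nodes.OppDec Cfsg.Agent.Nodes.LeviDec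

variable {I W Y : Type*} [Fintype I] [DecidableEq I] [Group W] [Group Y] {M : CoxeterMatrix I}
  {cs : CoxeterSystem M W} {A : I → I → ℤ} {h : IsCartan M A} {p : ℕ} {T : Subgroup Y} {n : I → Y}
  {X : (I → ℤ) → Subgroup Y}

/-- the formula of the cuspidal vectors, for the ring `E` -/
def Cusp (cs : CoxeterSystem M W) (h : IsCartan M A) (T : Subgroup Y) (X : (I → ℤ) → Subgroup Y) [Finite Y]
    {E : Type*} [Ring E] (φ : Y →* E) : Prop :=
  ∀ (K : Finset I) (f : E), VJ cs h X (K : Set I) ≤ LF φ f →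
    (∀ K' : Finset I, K' ⊂ K → ∀ m : E, VJ cs h X (K' : Set I) ≤ LF φ m → m = 0) →
    (∑ g ∈ (Set.toFinite (Set.univ : Set Y)).toFinset, (coef cs h T X g : E) * φ g) * f =
      (-1) ^ K.card * (Nat.card (UJ cs h X (K : Set I)) : E) *
        (S φ (VJ cs h X (K : Set I)) * (S φ (VNJ cs h X (K : Set I)) * f))

theorem isUnit_neg_one_pow {E : Type*} [Ring E] (k : ℕ) : IsUnit ((-1 : E) ^ k) := (isUnit_one.neg).pow k

theorem isUnit_UJ [Finite Y] {E : Type*} [Ring E] [Finite W] [Fact p.Prime] (R : RGD cs h p T n X)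
    (hp : IsUnit (p : E)) (K : Set I) : IsUnit ((Nat.card (UJ cs h X K) : ℕ) : E) :=
  isUnit_card hp (R.isPGroup_of_pos fun _ hx => ⟨hx.1, hx.2.1⟩)

theorem VJ_univ : VJ cs h X (Set.univ : Set I) = ⊥ := by
  rw [eq_bot_iff]
  refine RGD.Sup_le fun x hx => ?_
  obtain ⟨-, -, k, hk, -⟩ := hx
  exact absurd (Set.mem_univ k) hk

/-- **UNIT** -/
theorem one_eq_zero_of_cusp [Finite Y] {E : Type*} [Ring E] {φ : Y →* E} [Finite W] [Fact p.Prime]
    (R : RGD cs h p T n X) (hp : IsUnit (p : E)) (hA : Cusp cs h T X φ)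
    (h0 : ∑ g ∈ (Set.toFinite (Set.univ : Set Y)).toFinset, (coef cs h T X g : E) * φ g = 0) : (1 : E) = 0 := by
  have key : ∀ (c : ℕ) (K : Finset I), K.card = c → S φ (VJ cs h X (K : Set I)) = 0 := by
    intro c
    induction c using Nat.strong_induction_on with
    | _ c ih =>
    intro K hK
    have hsm : ∀ L : Finset I, L.card < K.card → S φ (VJ cs h X (L : Set I)) = 0 :=
      fun L hL => ih L.card (by omega) L rfl
    have hfix : VJ cs h X (K : Set I) ≤ LF φ (S φ (VJ cs h X (K : Set I))) := fun g hg => left_S φ hg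
    have h1 := hA K (S φ (VJ cs h X (K : Set I))) hfix fun K' hK' m hm =>
      eq_zero_of_fix (isUnit_VJ R hp _) (hsm K' (Finset.card_lt_card hK')) hm
    rw [h0, zero_mul] at h1
    have h2 := (((isUnit_neg_one_pow K.card).mul (isUnit_UJ R hp _)).mul_right_eq_zero).1 h1.symm
    exact inj_pos R hp hsm hfix (inj_neg R hp hsm (fun g hg => by
      rw [mem_LF, ← mul_assoc, left_S φ hg]) h2)
  have h1 := key _ Finset.univ rfl
  rwa [Finset.coe_univ, VJ_univ, S_bot] at h1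

end Cfsg.Agent.H631.Kaw
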