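import Mathlib
import Cfsg.Agent.H631.Kaw.Unit
import Cfsg.Agent.H631.Kaw.Coef
import Cfsg.Agent.H732.Kaw.Fin
import Cfsg.Agent.H732.VZ.Close
import Cfsg.Agent.H115.PelQuot
import Cfsg.Agent.H730.OZ.Defs

/-!
# **K-ALL** (S4842, helper631): for every irreducible character `χ` of a finite group with a root group datum of
characteristic `p` the sum of `χ` over the `p`-elements is `± p^m χ(1)`.
-/

set_option autoImplicit false
set_option linter.unusedSectionVars false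

namespace Cfsg.Agent.H631.Kaw

open CoxeterSystem Cfsg.Agent.ChevalleyStructure.CoxeterGeom Cfsg.Agent.Tits.Roots Cfsg.Agent.Tits.Core
  Cfsg.Agent.Tits.Exchange Cfsg.Agent.Nodes.Reps Cfsg.Agent.Nodes.BNOf Cfsg.Agent.Nodes.StabComb
  Cfsg.Agent.Nodes.Bruhat Cfsg.Agent.Nodes.OppDec Cfsg.Agent.Nodes.LeviDec Cfsg.Agent.Nodes.RGDChev

universe u

variable {I W : Type*} {Y : Type u} [Fintype I] [DecidableEq I] [Group W] [Group Y] {M : CoxeterMatrix I}
  {cs : CoxeterSystem M W} {A : I → I → ℤ} {h : IsCartan M A} {p : ℕ} {T : Subgroup Y} {n : I → Y}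
  {X : (I → ℤ) → Subgroup Y}

/-- UNIT for the sum of the `p`-elements -/
theorem one_eq_zero_of_pel [Finite Y] {E : Type*} [Ring E] {φ : Y →* E} [Finite W] [Fact p.Prime]
    (R : RGD cs h p T n X) (hG : GG cs h T X = ⊤) (hp : IsUnit (p : E)) (hA : Cusp cs h T X φ)
    (h0 : ∑ g ∈ pel Y p, φ g = 0) : (1 : E) = 0 := by
  classical
  refine one_eq_zero_of_cusp R hp hA ?_
  rw [← h0]
  symm
  have h1 : pel Y p ⊆ (Set.toFinite (Set.univ : Set Y)).toFinset := fun g _ =>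
    (Set.Finite.mem_toFinset _).2 (Set.mem_univ g)
  rw [← Finset.sum_subset h1 (f := fun g => (coef cs h T X g : E) * φ g) fun g _ hg => by
    rw [coef_of_not_mem R hg, Int.cast_zero, zero_mul]]
  refine Finset.sum_congr rfl fun g hg => ?_
  rw [coef_eq_one R hG hg, Int.cast_one, one_mul]

/-- the sum of the `p`-elements as the sum with coefficients `coef` -/
theorem sum_coef_eq [Finite Y] {E : Type*} [Ring E] {φ : Y →* E} [Finite W] [Fact p.Prime]
    (R : RGD cs h p T n X) (hG : GG cs h T X = ⊤) :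
    ∑ g ∈ (Set.toFinite (Set.univ : Set Y)).toFinset, (coef cs h T X g : E) * φ g = ∑ g ∈ pel Y p, φ g := by
  classical
  symm
  have h1 : pel Y p ⊆ (Set.toFinite (Set.univ : Set Y)).toFinset := fun g _ =>
    (Set.Finite.mem_toFinset _).2 (Set.mem_univ g)
  rw [← Finset.sum_subset h1 (f := fun g => (coef cs h T X g : E) * φ g) fun g _ hg => by
    rw [coef_of_not_mem R hg, Int.cast_zero, zero_mul]]
  refine Finset.sum_congr rfl fun g hg => ?_
  rw [coef_eq_one R hG hg, Int.cast_one, one_mul]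

theorem UJ_empty : UJ cs h X (∅ : Set I) = ⊥ := by
  rw [eq_bot_iff]
  refine RGD.Sup_le fun x hx => ?_
  exact absurd (funext fun k => hx.2.2 k (Set.notMem_empty k)) hx.1.ne_zero

/-- the formula for the `p`-elements on the cuspidal vectors -/
theorem sum_pel_mul [Finite Y] {E : Type*} [Ring E] {φ : Y →* E} [Finite W] [Fact p.Prime]
    (R : RGD cs h p T n X) (hG : GG cs h T X = ⊤) (hA : Cusp cs h T X φ) (K : Finset I) (f : E)
    (hf : VJ cs h X (K : Set I) ≤ LF φ f)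
    (hc : ∀ K' : Finset I, K' ⊂ K → ∀ m : E, VJ cs h X (K' : Set I) ≤ LF φ m → m = 0) :
    (∑ g ∈ pel Y p, φ g) * f = (-1) ^ K.card * (Nat.card (UJ cs h X (K : Set I)) : E) *
        (S φ (VJ cs h X (K : Set I)) * (S φ (VNJ cs h X (K : Set I)) * f)) := by
  rw [← hA K f hf hc, sum_coef_eq R hG]

/-- **Kawanaka's identity**: on the vectors fixed by `U` the sum of the `p`-elements is `∑ u y`, `u ∈ U`, `y ∈ U⁻` -/
theorem sum_pel_mul_U [Finite Y] {E : Type*} [Ring E] {φ : Y →* E} [Finite W] [Fact p.Prime]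
    (R : RGD cs h p T n X) (hG : GG cs h T X = ⊤) (hA : Cusp cs h T X φ) (f : E)
    (hf : VJ cs h X (∅ : Set I) ≤ LF φ f) :
    (∑ g ∈ pel Y p, φ g) * f = S φ (VJ cs h X (∅ : Set I)) * (S φ (VNJ cs h X (∅ : Set I)) * f) := by
  have h1 := sum_pel_mul R hG hA ∅ f (by rw [Finset.coe_empty]; exact hf)
    (fun K' hK' => absurd hK' (Finset.not_ssubset_empty K'))
  rw [Finset.coe_empty, Finset.card_empty, pow_zero, UJ_empty, Subgroup.card_bot, Nat.cast_one, one_mul,
    one_mul] at h1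
  exact h1

/-- **K-ALL** -/
theorem kaw [Finite Y] [Finite W] [hpf : Fact p.Prime] (R : RGD cs h p T n X) (hG : GG cs h T X = ⊤)
    (hA : ∀ (E : Type u) [Ring E] (φ : Y →* E), Cusp cs h T X φ)
    (χ : Cfsg.IrrCharacter Y) : ∃ (m : ℕ) (e : ℤ), (e = 1 ∨ e = -1) ∧
      ∑ g ∈ pel Y p, (χ : Y → ℂ) g = e * (p : ℂ) ^ m * (χ : Y → ℂ) 1 :=
  Cfsg.Agent.H732.Kaw.kaw_of_unit hpf.1 (fun E _ φ hp h0 => one_eq_zero_of_pel R hG hp (hA E φ) h0) χ

/-- the form of the hub -/
theorem kaw_of_rgd [Finite Y] [Finite W] [hpf : Fact p.Prime] (R : RGD cs h p T n X) (hG : GG cs h T X = ⊤)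
    (hA : ∀ (E : Type u) [Ring E] (φ : Y →* E), Cusp cs h T X φ)
    (hc : (Cfsg.Agent.H730.OZ.pSet p Y).ncard = p ^ (2 * (Nat.card Y).factorization p)) :
    Cfsg.Agent.H730.OZ.Kaw p Y where
  sum χ hχ := by
    obtain ⟨m, e, he, h1⟩ := kaw R hG hA ⟨χ, hχ⟩
    refine ⟨m, e, he, ?_⟩
    rw [← h1, finsum_mem_eq_finite_toFinset_sum _ (Set.toFinite _)]
    rfl
  card := hc

end Cfsg.Agent.H631.Kaw

namespace Cfsg.Agent.H631.Kaw

open Cfsg.Agent.Nodes.RGDChev Cfsg.Agent.Nodes.BNOf Cfsg.Agent.Nodes.Bruhat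

universe u

/-- Steinberg's count -/
theorem card_pSet {p : ℕ} {G : Type u} [Group G] [Finite G] [hp : Fact p.Prime] (hG : HasRGD p G) :
    (Cfsg.Agent.H730.OZ.pSet p G).ncard = p ^ (2 * (Nat.card G).factorization p) := by
  have h0 : Nat.card G ≠ 0 := Nat.card_pos.ne'
  have h1 := Cfsg.Agent.H115.card_pel_of_hasRGD' hG (a := (Nat.card G).factorization p)
    (m := Nat.card G / p ^ (Nat.card G).factorization p) (Nat.ordProj_mul_ordCompl_eq_self _ p).symm
    (Nat.not_dvd_ordCompl hp.1 h0)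
  rw [mul_comm 2, pow_mul, ← h1]
  exact (Nat.card_coe_set_eq _).symm

end Cfsg.Agent.H631.Kaw
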